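import Cfsg.Agent.H80.PU.TwoForm
import Cfsg.Agent.H71.BGNP.SylowTwoModule

/-!
The second outcome gives an exceptional block; the two outcomes together give a linear block.
-/

set_option autoImplicit false
set_option linter.unusedSectionVars false
set_option linter.style.haveILetI false

open Subgroup
open scoped commutatorElement MatrixGroups

namespace H80.PU

open H71.BGNP

variable {X : Type*} [Group X] [Finite X] {p : ℕ} [Fact p.Prime] {F : Type} [Field F] [Fintype F]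
  {ψ : X →* Matrix.ProjectiveSpecialLinearGroup (Fin 2) F} {S : Sylow p X}
  {T U V1 Q1 K1 W A : Subgroup X} {z : X}

/-- The only involution of `SL₂(F)` in odd characteristic is `-1`. -/
theorem eq_neg_one_of_sq {F : Type*} [Field F] (h2 : (2 : F) ≠ 0) {g : SL(2, F)} (hg : g * g = 1)
    (hne : g ≠ 1) : g = -1 := by
  have hinv : g⁻¹ = g := inv_eq_of_mul_eq_one_right hg
  have hdet : (g : Matrix (Fin 2) (Fin 2) F) 0 0 * (g : Matrix (Fin 2) (Fin 2) F) 1 1 -
      (g : Matrix (Fin 2) (Fin 2) F) 0 1 * (g : Matrix (Fin 2) (Fin 2) F) 1 0 = 1 := det_eq g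
  have e : ∀ i j, ((g⁻¹ : SL(2, F)) : Matrix (Fin 2) (Fin 2) F) i j =
      (g : Matrix (Fin 2) (Fin 2) F) i j := fun i j => by rw [hinv]
  have e00 := e 0 0
  have e01 := e 0 1
  have e10 := e 1 0
  simp [Matrix.SpecialLinearGroup.coe_inv, Matrix.adjugate_fin_two] at e00 e01 e10
  have hb : (g : Matrix (Fin 2) (Fin 2) F) 0 1 = 0 := by
    have : (2 : F) * (g : Matrix (Fin 2) (Fin 2) F) 0 1 = 0 := by linear_combination -e01
    simpa [h2] using this
  have hc : (g : Matrix (Fin 2) (Fin 2) F) 1 0 = 0 := by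
    have : (2 : F) * (g : Matrix (Fin 2) (Fin 2) F) 1 0 = 0 := by linear_combination -e10
    simpa [h2] using this
  rw [hb, zero_mul, sub_zero, e00] at hdet
  rcases mul_self_eq_one_iff.1 hdet with h1 | h1
  · refine absurd (Subtype.ext ?_) hne
    ext i j; fin_cases i <;> fin_cases j <;> simp [hb, hc, h1, e00]
  · apply Subtype.ext
    ext i j; fin_cases i <;> fin_cases j <;> simp [hb, hc, h1, e00]

/-- An involution of `O^p(X)` over `-1`. -/
theorem exists_full (h : Sit p ψ S) (hA : opX p X ⊔ A = ⊤)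
    (hT : Two p (Fintype.card F) ⊤ (S : Subgroup X) (Cfsg.pCore p X)
      (normalClosure (Zc p (S : Subgroup X) : Set X)) T U V1 Q1 K1 W A) :
    ∃ z, TwoFull ψ S T U V1 Q1 K1 W A z := by
  haveI := h.char
  have hp := hT.ne_two
  haveI : NeZero p := ⟨(Fact.out : p.Prime).ne_zero⟩
  have h2 : (2 : F) ≠ 0 := two_ne_zero_E hp
  obtain ⟨S₁, r₁, hS₁, hr₁, hker, hmap⟩ := exists_hom h
  -- `-1` is a commutator
  obtain ⟨a, b, hab⟩ := CharP.sq_add_sq F p (-1)
  push_cast at hab
  let w : SL(2, F) := ⟨!![0, 1; -1, 0], by rw [Matrix.det_fin_two_of]; ring⟩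
  let j : SL(2, F) := ⟨!![(a : F), b; b, -a], by rw [Matrix.det_fin_two_of]; linear_combination -hab⟩
  have hwj : w * j = -1 * (j * w) := by
    rw [neg_one_mul]
    apply Subtype.ext
    show (!![0, 1; -1, 0] : Matrix (Fin 2) (Fin 2) F) * !![(a : F), b; b, -a] =
      -(!![(a : F), b; b, -a] * !![0, 1; -1, 0])
    ext i k; fin_cases i <;> fin_cases k <;> simp
  have hm1 : (-1 : SL(2, F)) ∈ commutator SL(2, F) := by
    have e : ⁅w, j⁆ = -1 := by
      rw [commutatorElement_def, hwj]; group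
    rw [← e, _root_.commutator_def]
    exact commutator_mem_commutator (mem_top _) (mem_top _)
  rw [← hmap] at hm1
  obtain ⟨e, heE, hre⟩ := hm1
  -- its 2-part
  haveI : Fact (Nat.Prime 2) := ⟨Nat.prime_two⟩
  obtain ⟨o, i, ho, hoi⟩ : ∃ o i, ¬ 2 ∣ o ∧ orderOf e = 2 ^ i * o :=
    ⟨_, _, Nat.not_dvd_ordCompl Nat.prime_two (orderOf_pos e).ne',
      (Nat.ordProj_mul_ordCompl_eq_self (orderOf e) 2).symm⟩
  have hy : r₁ (e ^ o) = -1 := by
    rw [map_pow, hre]
    have hodd : Odd o := Nat.not_even_iff_odd.1 fun he => ho he.two_dvd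
    exact hodd.neg_one_pow
  have hsq : e ^ o * e ^ o = 1 := by
    refine H75.eq_one_of_mem_of_coprime (H1.isPGroup_pCore p X) (p := p) ?_ ?_
    · rw [← hker, MonoidHom.mem_ker, map_mul, hy]
      simp
    · have hdvd : orderOf (e ^ o * e ^ o) ∣ 2 ^ i := by
        refine orderOf_dvd_of_pow_eq_one ?_
        rw [← sq, ← pow_mul, ← pow_mul, show o * (2 * 2 ^ i) = 2 ^ i * o * 2 by ring, ← hoi,
          pow_mul, pow_orderOf_eq_one, one_pow]
      exact Nat.Coprime.coprime_dvd_left hdvd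
        (((Nat.coprime_primes Nat.prime_two Fact.out).2 (Ne.symm hp)).pow_left i)
  set z := e ^ o with hz
  have hzD : ∀ x, ⁅z, x⁆ ∈ Cfsg.pCore p X := fun x => by
    rw [← hker, MonoidHom.mem_ker, map_commutatorElement, hy]
    rw [commutatorElement_eq_one_iff_mul_comm]
    simp
  refine ⟨z, ⟨⟨h, hT, pow_mem heE o, hsq, hzD⟩, fun S' r hS' hr => ?_, hA⟩⟩
  refine eq_neg_one_of_sq h2 (by rw [← map_mul, hsq, map_one]) fun h1 => ?_
  have hz1 : z ∈ r₁.ker := by
    rw [hker, ← h.ker_natHom hS' hr]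
    exact h1
  rw [MonoidHom.mem_ker, hy] at hz1
  have h00 := congrArg (fun g : SL(2, F) => (g : Matrix (Fin 2) (Fin 2) F) 0 0) hz1
  simp at h00
  exact h2 (by linear_combination -h00)

namespace TwoFull

variable (c : TwoFull ψ S T U V1 Q1 K1 W A z)
include c

/-- `[O_p(X), O^p(X)]` is the core of `O^p(X)`. -/
theorem core : Cfsg.pCoreOf p (opX p X) = P0 p X := by
  refine core_eq c.ctx.sit c.ctx.two.sup c.ctx.two.comm fun d hd => ?_
  obtain ⟨m, r, rfl, hm, -, hr⟩ := c.ctx.decomp hd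
  obtain ⟨v, hv, k, hk, rfl, hkT⟩ := c.ctx.two.split r hr.1 (c.R_le_Q1 hr)
  exact ⟨m * v, mul_mem (mem_sup_left hm) (mem_sup_right hv), k, hk, by rw [mul_assoc], hkT⟩

/-- Commutators of a fixed element of `V₁` detect `Q₁`. -/
theorem exists_witness : ∃ u ∈ V1, u ∉ Zc p (S : Subgroup X) ∧ ∀ n ∈ Nn ψ S, ⁅u, n⁆ = 1 → n ∈ Q1 := by
  obtain ⟨u, hu, huZ⟩ := SetLike.not_le_iff_exists.1 c.ctx.two.V1_not
  refine ⟨u, hu, huZ, fun n hn h1 => by_contra fun hnQ => ?_⟩
  exact c.ctx.two.cover u hu huZ n (H1.pCore_le_sylow S (c.Nn_D hn)) hnQ (h1 ▸ one_mem _)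

/-- The centre of `[O_p(X), O^p(X)]` lies in `V`. -/
theorem center_le : P0 p X ⊓ centralizer (P0 p X : Set X) ≤
    normalClosure (Zc p (S : Subgroup X) : Set X) := by
  haveI hVn := normalClosure_normal (s := (Zc p (S : Subgroup X) : Set X))
  haveI hP0n := c.ctx.P0_normal
  haveI : (centralizer (P0 p X : Set X)).Normal := inferInstance
  set V := normalClosure (Zc p (S : Subgroup X) : Set X) with hV
  set CP := P0 p X ⊓ centralizer (P0 p X : Set X) with hCP
  obtain ⟨hch, -, -, -, -⟩ := c.natural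
  rcases hch.2.2.2 (CP ⊔ V) inferInstance le_sup_right (sup_le_sup_right inf_le_left _) with h | h
  · exact le_sup_left.trans h.le
  exfalso
  have hN : Nn ψ S ≤ centralizer (Nn ψ S : Set X) := by
    refine h.ge.trans (sup_le (fun x hx => mem_centralizer_iff.2 fun n hn => ?_) fun v hv =>
      mem_centralizer_iff.2 fun n hn => c.V_comm hv (c.Nn_D hn))
    obtain ⟨m, hm, v, hv, rfl⟩ := c.Nn_mul hn
    have h1 := mem_centralizer_iff.1 hx.2 m hm
    have h2 := c.V_comm hv (c.P0_D hx.1)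
    rw [mul_assoc, ← h2, ← mul_assoc, h1, mul_assoc]
  obtain ⟨u, hu, -, huQ⟩ := c.exists_witness
  refine c.not_le_Q1 fun m hm => huQ m (mem_sup_left hm) (comm_eq_one_of ?_)
  exact mem_centralizer_iff.1 (hN (mem_sup_left hm)) u (c.V1_le_N hu)

theorem omega_eq : Cfsg.omegaOneCenter p (P0 p X) =
    P0 p X ⊓ normalClosure (Zc p (S : Subgroup X) : Set X) := by
  refine le_antisymm ((H75.omegaOne_le (p := p) _).trans (le_inf inf_le_left c.center_le)) ?_
  intro x hx
  exact subset_closure ⟨⟨hx.1, mem_centralizer_iff.2 fun y hy => c.V_comm hx.2 (c.P0_D hy)⟩,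
    (module_facts c.ctx.sit).2.2.1 x hx.2⟩

/-- `V ∩ [O_p(X), O^p(X)]` covers the noncentral part of `V`. -/
theorem V_cover : ¬ P0 p X ⊓ normalClosure (Zc p (S : Subgroup X) : Set X) ≤ center X ∧
    normalClosure (Zc p (S : Subgroup X) : Set X) ≤
      (P0 p X ⊓ normalClosure (Zc p (S : Subgroup X) : Set X)) ⊔
        (normalClosure (Zc p (S : Subgroup X) : Set X) ⊓ center X) := by
  haveI hVn := normalClosure_normal (s := (Zc p (S : Subgroup X) : Set X))
  haveI hP0n := c.ctx.P0_normal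
  obtain ⟨hch, hnc⟩ := c.ctx.sit.chief_V
  obtain ⟨-, hVC, -, -, -, -, -, -⟩ := module_facts c.ctx.sit
  set V := normalClosure (Zc p (S : Subgroup X) : Set X) with hV
  have hnot : ¬ P0 p X ⊓ V ≤ center X := by
    intro hle
    refine hnc (commutator_le.2 fun v hv x _ => ?_)
    have hvc : v ∈ center X := by
      have hzvz : z * v * z ∈ V := c.ctx.conj_mem hVn hv
      have hcomm : z * v * z * v = v * (z * v * z) := c.V_comm hv (c.V_D hzvz)
      have h1 : z * v * z * v ∈ center X := by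
        have hw : z * v * z * v ∈ V := mul_mem hzvz hv
        refine (chief_neg c.ctx.sit c.p_ne hch c.V_D hnc c.neg hw ?_).2
        calc z * (z * v * z * v) = z * z * v * z * v := by group
          _ = v * (z * v) * (z * z) := by rw [c.ctx.z_sq]; group
          _ = v * (z * v * z) * z := by group
          _ = z * v * z * v * z := by rw [hcomm]
      have h2 : ⁅v, z⁆ ∈ center X := hle ⟨commutator_mem_commutator (c.V_D hv) c.ctx.z_mem, by
        rw [commutatorElement_def, c.ctx.z_inv, mul_assoc v z, mul_assoc v]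
        exact mul_mem hv (c.ctx.conj_mem hVn (inv_mem hv))⟩
      refine mem_of_sq c.p_ne (H1.isPGroup_pCore p X) (c.V_D hv) ?_
      have h3 := mul_mem h2 h1
      rw [commutatorElement_def, c.ctx.z_inv] at h3
      have e : v * z * v⁻¹ * z * (z * v * z * v) = v * z * (v⁻¹ * (z * z) * v) * z * v := by group
      rw [c.ctx.z_sq, mul_one, inv_mul_cancel, mul_one, mul_assoc v z z, c.ctx.z_sq, mul_one] at e
      rwa [e] at h3
    rw [comm_eq_one_of (mem_center_iff.1 hvc x).symm]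
    exact one_mem _
  refine ⟨hnot, ?_⟩
  rcases hch.2.2.2 ((P0 p X ⊓ V) ⊔ (V ⊓ center X)) inferInstance le_sup_right
    (sup_le inf_le_right inf_le_left) with h | h
  · exact absurd (le_sup_left.trans (h.le.trans inf_le_right)) hnot
  · exact h.ge

/-- `Z = [P, P]`. -/
theorem comm_eq : ⁅P0 p X, P0 p X⁆ =
    P0 p X ⊓ normalClosure (Zc p (S : Subgroup X) : Set X) ⊓ centralizer (opX p X : Set X) := by
  haveI hP0n := c.ctx.P0_normal
  refine le_antisymm (commutator_le.2 fun a ha b hb => ?_) fun x hx => ?_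
  · obtain ⟨h1, h2⟩ := c.ctx.DU_mem (c.P0_D ha) (c.ctx.P0_le_U hb)
    exact ⟨⟨(commutator_le_left _ _) (commutator_mem_commutator ha hb), h1⟩,
      center_le_centralizer _ h2⟩
  · have hxc := inter_cent c.ctx.sit ⟨hx.1.2, hx.2⟩
    have h1 := c.inverts_mod ⁅P0 p X, P0 p X⁆ le_rfl hx.1.1
    rw [mem_center_iff.1 hxc z, mul_assoc x z z, c.ctx.z_sq, mul_one] at h1
    exact mem_of_sq c.p_ne (H1.isPGroup_pCore p X) (c.P0_D hx.1.1) h1

theorem frattini_eq : (frattini ↥(P0 p X)).map (P0 p X).subtype = ⁅P0 p X, P0 p X⁆ := by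
  have hP : IsPGroup p ↥(P0 p X) := (H1.isPGroup_pCore p X).to_le c.P0_D
  rw [← map_subtype_commutator]
  congr 1
  refine le_antisymm (H6.frattini_le_of_quotient (p := p) _ le_rfl fun g => ?_)
    (H6.commutator_le_frattini hP)
  have h1 : g ^ p = 1 := Subtype.ext (by simpa using c.ctx.two.U_pow _ (c.ctx.P0_le_U g.2))
  rw [h1]; exact one_mem _

theorem inter_centralizer :
    opX p X ⊓ centralizer (opX p X : Set X) =
      P0 p X ⊓ normalClosure (Zc p (S : Subgroup X) : Set X) ⊓ centralizer (opX p X : Set X) := by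
  refine le_antisymm ?_ fun x hx => ⟨?_, hx.2⟩
  · rintro x ⟨hxE, hxC⟩
    have hPE : P0 p X ≤ opX p X :=
      haveI := opX_normal (p := p) (X := X)
      commutator_le_right _ _
    have hxD : x ∈ Cfsg.pCore p X := by
      refine cent_V_le c.ctx.sit (mem_centralizer_iff.2 fun v hv => ?_)
      have : normalClosure (Zc p (S : Subgroup X) : Set X) ≤ centralizer ({x} : Set X) :=
        c.V_cover.2.trans (sup_le
          (fun y hy => mem_centralizer_singleton_iff.2 (mem_centralizer_iff.1 hxC y (hPE hy.1)))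
          fun y hy => mem_centralizer_singleton_iff.2 (mem_center_iff.1 hy.2 x).symm)
      exact mem_centralizer_singleton_iff.1 (this hv)
    have hxP : x ∈ P0 p X := by
      rw [← c.core, core_opX c.ctx.sit]
      exact ⟨hxE, hxD⟩
    exact ⟨⟨hxP, c.center_le ⟨hxP, centralizer_le (SetLike.coe_subset_coe.2 hPE) hxC⟩⟩, hxC⟩
  · haveI := opX_normal (p := p) (X := X)
    exact commutator_le_right _ _ hx.1.1

theorem card_center : Nat.card ↥(⁅P0 p X, P0 p X⁆) = Fintype.card F := by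
  refine le_antisymm ?_ ?_
  · obtain ⟨Z₁, hZ₁, hmem⟩ := c.exists_line
    have hle : ⁅P0 p X, P0 p X⁆ ≤ Z₁ :=
      commutator_le.2 fun a ha b hb => hmem a (mem_sup_left ha) b (mem_sup_left hb)
    exact (Nat.card_le_card_of_injective (Subgroup.inclusion hle)
      (Subgroup.inclusion_injective hle)).trans hZ₁
  · obtain ⟨u, hu, -, huQ⟩ := c.exists_witness
    obtain ⟨-, -, -, hcardN, -⟩ := c.natural
    set N := Nn ψ S
    have huN := c.V1_le_N hu
    have hmem : ∀ n ∈ N, ⁅u, n⁆ ∈ ⁅P0 p X, P0 p X⁆ := by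
      intro n hn
      obtain ⟨m₁, hm₁, v₁, hv₁, rfl⟩ := c.Nn_mul huN
      obtain ⟨m, hm, v, hv, rfl⟩ := c.Nn_mul hn
      have e : ⁅m₁ * v₁, m * v⁆ = ⁅m₁, m⁆ := by
        rw [comm_mul_left, comm_eq_one_of
            (c.V_comm hv₁ (mul_mem (c.P0_D hm) (c.V_D hv))).symm, mul_one,
          mul_inv_cancel, one_mul, comm_mul_right, comm_eq_one_of (c.V_comm hv (c.P0_D hm₁)),
          mul_one, mul_inv_cancel, mul_one]
      rw [e]; exact commutator_mem_commutator hm₁ hm
    let f : ↥N →* ↥(⁅P0 p X, P0 p X⁆) := MonoidHom.mk' (fun n => ⟨⁅u, (n : X)⁆, hmem n n.2⟩)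
      fun a b => Subtype.ext (by
        show ⁅u, (a : X) * b⁆ = ⁅u, (a : X)⁆ * ⁅u, (b : X)⁆
        rw [comm_mul_right, mem_center_iff.1 (c.comm_central huN b.2).2 a, mul_inv_cancel_right])
    have hker : Nat.card f.ker ≤ Nat.card ↥(N ⊓ Q1) := by
      refine Nat.card_le_card_of_injective
        (fun n => (⟨n.1.1, n.1.2, huQ _ n.1.2 (congrArg Subtype.val n.2)⟩ : ↥(N ⊓ Q1))) ?_
      intro a b e
      exact Subtype.ext (Subtype.ext (congrArg Subtype.val e :))
    have h1 := card_mul_index f.ker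
    rw [index_ker, hcardN] at h1
    refine Nat.le_of_mul_le_mul_right ?_ (Nat.card_pos (α := ↥(N ⊓ Q1)))
    calc Fintype.card F * Nat.card ↥(N ⊓ Q1) = Nat.card f.ker * Nat.card f.range := h1.symm
      _ ≤ Nat.card ↥(N ⊓ Q1) * Nat.card ↥(⁅P0 p X, P0 p X⁆) :=
        Nat.mul_le_mul hker (Nat.card_le_card_of_injective _ f.range.subtype_injective)
      _ = _ := mul_comm _ _

/-- No element of `S` outside the core acts quadratically. -/
theorem not_quad {b : X} (hb : b ∈ (S : Subgroup X)) (hbD : b ∉ Cfsg.pCore p X) :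
    ∃ m ∈ P0 p X, ⁅⁅m, b⁆, b⁆ ∉ center X ∧ ∃ t ∈ T, ⁅⁅m, t⁆, t⁆ ∉ center X := by
  haveI hVn := normalClosure_normal (s := (Zc p (S : Subgroup X) : Set X))
  haveI hDn := H1.pCore_normal' p X
  haveI hP0n := c.ctx.P0_normal
  obtain ⟨-, -, -, -, -, hcov, hcomm, -⟩ := module_facts c.ctx.sit
  obtain ⟨t, ht, d, hd, rfl⟩ := exists_mul_of_mem_sup
    (le_top.trans (normalizer_eq_top (Cfsg.pCore p X)).ge) (c.ctx.two.sup hb)
  have htD : t ∉ Cfsg.pCore p X := fun h => hbD (mul_mem h hd)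
  obtain ⟨m, hm, hmQ⟩ := SetLike.not_le_iff_exists.1 c.not_le_Q1
  have hmS := H1.pCore_le_sylow S (c.P0_D hm)
  have hmt : ⁅m, t⁆ ∈ P0 p X := by
    rw [commutatorElement_def, mul_assoc m t, mul_assoc m]
    exact mul_mem hm (hP0n.conj_mem _ (inv_mem hm) t)
  have hmtQ : ⁅m, t⁆ ∈ Q1 := by
    rw [commutatorElement_def]
    exact mul_mem ((mem_normalizer_iff.1 (c.ctx.two.Q1_norm hmS) t).1 (c.ctx.two.T_le ht))
      (inv_mem (c.ctx.two.T_le ht))
  have hn : ⁅m, t⁆ ∈ V1 ⊔ normalClosure (Zc p (S : Subgroup X) : Set X) :=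
    c.inter_eq.1.le ⟨mem_sup_left hmt, hmtQ⟩
  obtain ⟨u, hu, w, hw, he⟩ := exists_mul_of_mem_sup
    (le_top.trans (normalizer_eq_top (normalClosure (Zc p (S : Subgroup X) : Set X))).ge) hn
  have hwZ : w ∉ Zc p (S : Subgroup X) := fun hwZ => htD (c.ctx.two.move t ht m hmS hmQ
    (he ▸ mul_mem hu (c.ctx.two.Z_V1 hwZ)))
  have hwt : ⁅w, t⁆ ∉ center X := by
    rw [commutatorElement_def]
    exact hcov w hw hwZ t (c.ctx.two.le ht) htD
  have hwtV : ⁅w, t⁆ ∈ normalClosure (Zc p (S : Subgroup X) : Set X) := by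
    rw [commutatorElement_def]
    exact le_normalClosure (hcomm w hw t (c.ctx.two.le ht))
  have hnt : ⁅⁅m, t⁆, t⁆ = ⁅w, t⁆ := by
    rw [← he, comm_mul_left, comm_eq_one_of (c.ctx.two.Q1_cent u hu t (c.ctx.two.T_le ht)), mul_one,
      c.V_comm hwtV (c.ctx.two.U_le (c.ctx.two.V1_U hu)), mul_inv_cancel_right]
  refine ⟨m, hm, ?_, t, ht, hnt.symm ▸ hwt⟩
  set n := ⁅m, t⁆
  have hκ : ⁅m, d⁆ ∈ center X := (c.ctx.UD_mem (c.ctx.P0_le_U hm) hd).2
  have e1 : ⁅m, t * d⁆ = n * ⁅m, d⁆ := by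
    rw [comm_mul_right, mem_center_iff.1 hκ t, mul_inv_cancel_right]
  have e2 : ⁅n * ⁅m, d⁆, t * d⁆ = ⁅w, t⁆ * ⁅n, d⁆ := by
    rw [comm_mul_left, comm_eq_one_of (mem_center_iff.1 hκ (t * d)).symm, mul_one,
      mul_inv_cancel, one_mul, comm_mul_right, hnt,
      mem_center_iff.1 (c.ctx.UD_mem (c.ctx.P0_le_U hmt) hd).2 t, mul_inv_cancel_right]
  rw [e1, e2]
  intro h
  refine hwt ?_
  have := mul_mem h (inv_mem (c.ctx.UD_mem (c.ctx.P0_le_U hmt) hd).2)
  rwa [mul_inv_cancel_right] at this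

/-- The second outcome forces `p = 3`. -/
theorem p_eq : p = 3 := by
  haveI hVn := normalClosure_normal (s := (Zc p (S : Subgroup X) : Set X))
  haveI hDn := H1.pCore_normal' p X
  obtain ⟨b, hb, hbD⟩ := c.ctx.sit.ctx.exists_notMem
  obtain ⟨m, hm, -, t, ht, hmt⟩ := c.not_quad hb hbD
  have hindex : ∀ C ≤ U, (∀ u ∈ U, (∀ t ∈ T, ⁅u, t⁆ ∈ normalClosure (Zc p (S : Subgroup X) : Set X)) →
      u ∈ C) → Nat.card U ≤ Fintype.card F * Nat.card C := by
    intro C _ hC
    have hUS : U ≤ (S : Subgroup X) := c.ctx.two.U_le.trans (H1.pCore_le_sylow S)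
    have h1 := H10.card_mul_card_inf (hUS.trans c.ctx.two.Q1_norm)
    have h2 : U ⊓ Q1 ≤ C := fun u hu => hC u hu.1 fun t ht =>
      le_normalClosure (c.ctx.two.K1_le (c.ctx.two.Q1_T u hu.2 t ht))
    have h3 : U ⊔ Q1 ≤ (S : Subgroup X) := sup_le hUS c.ctx.two.Q1_le
    refine Nat.le_of_mul_le_mul_right ?_ (Nat.card_pos (α := ↥Q1))
    rw [← h1]
    calc Nat.card ↥(U ⊔ Q1) * Nat.card ↥(U ⊓ Q1)
        ≤ Fintype.card F * Nat.card Q1 * Nat.card C := Nat.mul_le_mul
          ((Nat.card_le_card_of_injective (Subgroup.inclusion h3)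
            (Subgroup.inclusion_injective h3)).trans c.ctx.two.Q1_card)
          (Nat.card_le_card_of_injective (Subgroup.inclusion h2)
            (Subgroup.inclusion_injective h2))
      _ = _ := by ring
  have hT : CaseTwo p (Fintype.card F) ⊤ (S : Subgroup X) (Cfsg.pCore p X)
      (normalClosure (Zc p (S : Subgroup X) : Set X)) T U W A :=
    { ne_two := c.p_ne
      le := c.ctx.two.le
      sup := c.ctx.two.sup
      comm := c.ctx.two.comm
      pow := c.ctx.two.pow
      U_le := c.ctx.two.U_le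
      U_ge := c.ctx.two.U_ge
      U_norm := c.ctx.two.U_norm
      U_pow := c.ctx.two.U_pow
      U_comm := c.ctx.two.U_comm
      QT := c.ctx.two.DT
      quad := fun x hx t ht t' ht' => c.ctx.two.K1_le (c.ctx.two.Q1_T _ (by
        rw [commutatorElement_def]
        exact mul_mem ((mem_normalizer_iff.1 (c.ctx.two.Q1_norm (H1.pCore_le_sylow S hx)) t).1
          (c.ctx.two.T_le ht)) (inv_mem (c.ctx.two.T_le ht))) t' ht')
      index := hindex
      W_ge := c.ctx.two.W_ge
      W_le := c.ctx.two.W_le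
      W_norm := c.ctx.two.W_norm
      W_not := c.ctx.two.W_not
      theta := ⟨m, c.ctx.P0_le_U hm, t, c.ctx.two.le ht, t, c.ctx.two.le ht, fun h => hmt (by
        rwa [centralizer_top_eq] at h)⟩ }
  exact (c.ctx.sit.two_form hT).1

theorem body_two {n : ℕ} (hF : Fintype.card F = p ^ n) :
    LinBody p F n (opX p X) (S : Subgroup X) := by
  haveI := opX_normal (p := p) (X := X)
  haveI := H1.pCore_normal' p X
  haveI hVn := normalClosure_normal (s := (Zc p (S : Subgroup X) : Set X))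
  haveI hP0n := c.ctx.P0_normal
  haveI hNn := c.Nn_normal
  obtain ⟨hVD, hVC, -, -, -, -, -, -⟩ := module_facts c.ctx.sit
  obtain ⟨hch, hnc⟩ := c.ctx.sit.chief_V
  obtain ⟨hchN, hncN, -, -, -⟩ := c.natural
  set V := normalClosure (Zc p (S : Subgroup X) : Set X) with hV
  rw [LinBody, c.core, c.omega_eq]
  refine ⟨?_, commutator_sylow c.ctx.sit, commutator_core_idem c.ctx.sit, exists_iso c.ctx.sit, ?_,
    Or.inr ⟨c.p_eq, ?_, c.comm_eq, ?_, c.inter_centralizer, ?_, ?_⟩⟩
  · rw [Cfsg.pResidualOf, H75.map_pResidual_eq_resOf]; exact opX_res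
  · have hacts := exists_acts c.ctx.sit hch c.V_D hnc (inf_le_right : P0 p X ⊓ V ≤ V) inferInstance
      fun hle => c.V_cover.1 (hle.trans inf_le_right)
    have heq : P0 p X ⊓ V ⊓ (V ⊓ center X) = P0 p X ⊓ V ⊓ centralizer (opX p X : Set X) :=
      le_antisymm (inf_le_inf_left _ (inf_le_right.trans (center_le_centralizer _)))
        fun x hx => ⟨hx.1, hx.1.2, inter_cent c.ctx.sit ⟨hx.1.2, hx.2⟩⟩
    rwa [heq] at hacts
  · exact exists_acts c.ctx.sit hchN c.Nn_D hncN le_sup_left inferInstance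
      fun hle => c.not_le_Q1 (hle.trans c.ctx.two.Q1_V)
  · rw [c.frattini_eq, c.comm_eq]
  · rw [c.inter_centralizer, ← c.comm_eq, c.card_center, hF, c.p_eq]
  · intro b hb hbW hle
    have hbD : b ∉ Cfsg.pCore p X := fun h => hbW (mem_centralizer_iff.2 fun v hv =>
      (hVC hv.2 b h).symm)
    obtain ⟨m, hm, hmb, -⟩ := c.not_quad hb hbD
    refine hmb ?_
    have h1 := hle (commutator_mem_commutator (commutator_mem_commutator hm (mem_zpowers b))
      (mem_zpowers b))
    rw [c.inter_centralizer] at h1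
    exact inter_cent c.ctx.sit ⟨h1.1.2, h1.2⟩

end TwoFull

/-- In the rank one pushing up situation `O^p(X)` is a linear block. -/
theorem body (h : Sit p ψ S) {n : ℕ} (hF : Fintype.card F = p ^ n) :
    LinBody p F n (opX p X) (S : Subgroup X) := by
  rcases exists_case_sit h with ⟨T, hT⟩ | ⟨T, U, V1, Q1, K1, W, A, hT⟩
  · exact body_one h hT n
  · obtain ⟨z, hz⟩ := exists_full h (opX_sup_sylow A) hT
    exact hz.body_two hF

end H80.PU
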