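import Cfsg.Agent.H71.BGNP.Cases

/-!
More about the two outcomes of the amalgam argument: the group covering the Sylow subgroup is
centralised by almost all of the core, and the neighbouring vertex.
-/

set_option autoImplicit false
set_option linter.unusedSectionVars false

open Subgroup Matrix
open scoped MatrixGroups Pointwise commutatorElement

namespace H80.PU

open H71.BGNP

variable {H : Type*} [Group H]

/-- The first outcome. -/
structure One (p : ℕ) (G S D V T : Subgroup H) : Prop where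
  le : T ≤ S
  sup : S ≤ T ⊔ D
  comm : ∀ t ∈ T, ∀ t' ∈ T, t * t' = t' * t
  pow : ∀ t ∈ T, t ^ p = 1
  comm_mem : ∀ d ∈ D, ∀ t ∈ T, ⁅d, t⁆ ∈ V
  split : ∀ d ∈ D, ∃ v ∈ V, ∃ c ∈ D, d = v * c ∧ ∀ t ∈ T, t * c = c * t

/-- The second outcome. -/
structure Two (p q : ℕ) (G S D V T U V1 Q1 K1 W A : Subgroup H) : Prop where
  ne_two : p ≠ 2
  le : T ≤ S
  sup : S ≤ T ⊔ D
  comm : ∀ t ∈ T, ∀ t' ∈ T, t * t' = t' * t
  pow : ∀ t ∈ T, t ^ p = 1
  T_le : T ≤ Q1
  U_le : U ≤ D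
  U_ge : V ≤ U
  U_norm : G ≤ normalizer (U : Set H)
  U_pow : ∀ u ∈ U, u ^ p = 1
  U_comm : ∀ d ∈ D, ∀ u ∈ U, ⁅d, u⁆ ∈ centralizer (G : Set H) ∧ ⁅d, u⁆ ∈ V
  DT : ∀ d ∈ D, ∀ t ∈ T, ⁅d, t⁆ ∈ U
  Q1_le : Q1 ≤ S
  Q1_V : V ≤ Q1
  Q1_cent : ∀ u ∈ V1, ∀ c ∈ Q1, u * c = c * u
  Q1_card : Nat.card S ≤ q * Nat.card Q1
  Q1_T : ∀ c ∈ Q1, ∀ t ∈ T, ⁅c, t⁆ ∈ K1
  K1_le : K1 ≤ Zc p S
  V1_U : V1 ≤ U
  V1_Q1 : V1 ≤ Q1
  V1_not : ¬ V1 ≤ Zc p S
  V1_comm : ∀ u ∈ V1, ∀ s ∈ S, ⁅u, s⁆ ∈ Zc p S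
  V1_card : q * Nat.card (Zc p S) ≤ Nat.card V1
  Z_V1 : Zc p S ≤ V1
  Q1_norm : S ≤ normalizer (Q1 : Set H)
  cover : ∀ u ∈ V1, u ∉ Zc p S → ∀ s ∈ S, s ∉ Q1 → ⁅u, s⁆ ∉ K1
  split : ∀ d ∈ D, d ∈ Q1 → ∃ v ∈ V, ∃ c ∈ D, d = v * c ∧ ∀ t ∈ T, t * c = c * t
  move : ∀ t ∈ T, ∀ m ∈ S, m ∉ Q1 → ⁅m, t⁆ ∈ V1 → t ∈ D
  W_ge : V ≤ W
  W_le : W ≤ U
  W_norm : A ≤ normalizer (W : Set H)
  W_not : ¬ G ≤ normalizer (W : Set H)

section transport

variable {X : Type*} [Group X] {f : X →* H} (hf : Function.Injective f)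
include hf

theorem One.comap {p : ℕ} {S D V : Subgroup X} {T : Subgroup H}
    (h : One p f.range (S.map f) (D.map f) (V.map f) T) : One p ⊤ S D V (T.comap f) where
  le x hx := (mem_map_iff_mem hf).1 (h.le hx)
  sup := le_of_map_sup hf (h.le.trans (map_le_range _ _)) h.sup
  comm t ht t' ht' := hf (by rw [map_mul, map_mul]; exact h.comm _ ht _ ht')
  pow t ht := hf (by rw [map_pow, map_one]; exact h.pow _ ht)
  comm_mem d hd t ht := (mem_map_iff_mem hf).1 (by
    rw [map_commutatorElement]; exact h.comm_mem _ (mem_map_of_mem f hd) _ ht)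
  split d hd := by
    obtain ⟨_, ⟨v, hv, rfl⟩, _, ⟨c, hc, rfl⟩, he, hct⟩ := h.split _ (mem_map_of_mem f hd)
    exact ⟨v, hv, c, hc, hf (by rw [map_mul]; exact he),
      fun t ht => hf (by rw [map_mul, map_mul]; exact hct _ ht)⟩

theorem Two.comap {p q : ℕ} {S D V A : Subgroup X} {T U V1 Q1 K1 W : Subgroup H}
    (h : Two p q f.range (S.map f) (D.map f) (V.map f) T U V1 Q1 K1 W (A.map f)) :
    Two p q ⊤ S D V (T.comap f) (U.comap f) (V1.comap f) (Q1.comap f) (K1.comap f) (W.comap f)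
      A := by
  have hV1 : V1 ≤ f.range :=
    h.V1_U.trans (h.U_le.trans (map_le_range _ _))
  refine
  { ne_two := h.ne_two
    le := fun x hx => (mem_map_iff_mem hf).1 (h.le hx)
    sup := le_of_map_sup hf (h.le.trans (map_le_range _ _)) h.sup
    comm := fun t ht t' ht' => hf (by rw [map_mul, map_mul]; exact h.comm _ ht _ ht')
    pow := fun t ht => hf (by rw [map_pow, map_one]; exact h.pow _ ht)
    T_le := fun x hx => h.T_le hx
    U_le := fun x hx => (mem_map_iff_mem hf).1 (h.U_le hx)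
    U_ge := fun x hx => h.U_ge (mem_map_of_mem f hx)
    U_norm := fun x _ => le_normalizer_comap f (h.U_norm (⟨x, rfl⟩ : f x ∈ f.range))
    U_pow := fun u hu => hf (by rw [map_pow, map_one]; exact h.U_pow _ hu)
    U_comm := fun x hx u hu => by
      obtain ⟨h1, h2⟩ := h.U_comm _ (mem_map_of_mem f hx) _ hu
      rw [← map_commutatorElement] at h1 h2
      exact ⟨central_of_map hf h1, (mem_map_iff_mem hf).1 h2⟩
    DT := fun x hx t ht => by
      show f ⁅x, t⁆ ∈ U
      rw [map_commutatorElement]; exact h.DT _ (mem_map_of_mem f hx) _ ht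
    Q1_le := fun x hx => (mem_map_iff_mem hf).1 (h.Q1_le hx)
    Q1_V := fun x hx => h.Q1_V (mem_map_of_mem f hx)
    Q1_cent := fun u hu c hc => hf (by rw [map_mul, map_mul]; exact h.Q1_cent _ hu _ hc)
    Q1_card := ?_
    Q1_T := fun c hc t ht => by
      show f ⁅c, t⁆ ∈ K1
      rw [map_commutatorElement]; exact h.Q1_T _ hc _ ht
    K1_le := fun x hx => Zc_of_map hf (h.K1_le hx)
    V1_U := fun x hx => h.V1_U hx
    V1_Q1 := fun x hx => h.V1_Q1 hx
    V1_not := fun hle => h.V1_not fun y hy => ?_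
    V1_comm := fun u hu s hs => Zc_of_map hf (by
      rw [map_commutatorElement]; exact h.V1_comm _ hu _ (mem_map_of_mem f hs))
    V1_card := ?_
    Z_V1 := fun x hx => h.Z_V1 (by rw [← map_Zc hf]; exact mem_map_of_mem f hx)
    Q1_norm := fun x hx => le_normalizer_comap f (h.Q1_norm (mem_map_of_mem f hx))
    cover := fun u hu hu' s hs hs' hc => h.cover _ hu (fun hz => hu' (Zc_of_map hf hz)) _
      (mem_map_of_mem f hs) hs' (by rw [← map_commutatorElement]; exact hc)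
    split := fun d hd hd' => by
      obtain ⟨_, ⟨v, hv, rfl⟩, _, ⟨c, hc, rfl⟩, he, hct⟩ := h.split _ (mem_map_of_mem f hd) hd'
      exact ⟨v, hv, c, hc, hf (by rw [map_mul]; exact he),
        fun t ht => hf (by rw [map_mul, map_mul]; exact hct _ ht)⟩
    move := fun t ht m hm hm' hc => (mem_map_iff_mem hf).1 (h.move _ ht _ (mem_map_of_mem f hm) hm'
      (by rw [← map_commutatorElement]; exact hc))
    W_ge := fun x hx => h.W_ge (mem_map_of_mem f hx)
    W_le := fun x hx => h.W_le hx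
    W_norm := fun x hx => le_normalizer_comap f (h.W_norm (mem_map_of_mem f hx))
    W_not := fun hn => h.W_not (by
      rintro _ ⟨x, rfl⟩
      have h1 := (le_normalizer_map f) (mem_map_of_mem f (hn (mem_top x)))
      rwa [map_comap_eq_self ((h.W_le.trans h.U_le).trans (map_le_range _ _))] at h1) }
  · have h1 := h.Q1_card
    rwa [card_map_of_injective hf,
      ← map_comap_eq_self (h.Q1_le.trans (map_le_range f S)), card_map_of_injective hf] at h1
  · obtain ⟨x, rfl⟩ := hV1 hy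
    rw [← map_Zc hf]
    exact mem_map_of_mem f (hle hy)
  · have h1 := h.V1_card
    rwa [← map_Zc hf, card_map_of_injective hf, ← map_comap_eq_self hV1,
      card_map_of_injective hf] at h1

end transport

variable {p q : ℕ} {G S : Subgroup H} {b : ℕ} {f : ℕ → Subgroup H}
variable {K M P P' : Subgroup H}
variable (hB : Base p q G S)
include hB

theorem exists_case [Finite H] (hpp : p.Prime) :
    (∃ K P T : Subgroup H, Edge G S K P ∧ One p K P (Qf G S K) (Vf p G S K) T) ∨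
    (∃ K P T U V1 Q1 K1 W a : Subgroup H, Edge G S K P ∧ Edge G S K a ∧
      Two p q K P (Qf G S K) (Vf p G S K) T U V1 Q1 K1 W a) := by
  classical
  have hex : ∃ n, ∃ K M : Subgroup H, Reach G S n K M ∧ ¬ Vf p G S K ≤ Qf G S M := by
    by_contra hcon
    push Not at hcon
    set U := ⨆ (M : Subgroup H) (_ : ∃ n, Reach G S n G M), Vf p G S M with hU
    have hUS : U ≤ S := iSup₂_le fun M ⟨n, hn⟩ =>
      (hcon n M G (reach_symm hn)).trans (Qf_le edge_base)
    have hUG : G ≤ normalizer (U : Set H) := by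
      refine le_normalizer_of_conj fun g hg => ?_
      rw [cj, map_le_iff_le_comap]
      refine iSup₂_le fun M ⟨n, hn⟩ => ?_
      rw [← map_le_iff_le_comap]
      refine (cj_Vf g M).le.trans (le_iSup₂_of_le _ ⟨n, ?_⟩ le_rfl)
      have := reach_cj g hn
      rwa [cj_eq_self hg] at this
    have hUN : normalizer (S : Set H) ≤ normalizer (U : Set H) := by
      refine le_normalizer_of_conj fun a ha => ?_
      rw [cj, map_le_iff_le_comap]
      refine iSup₂_le fun M ⟨n, hn⟩ => ?_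
      rw [← map_le_iff_le_comap]
      refine (cj_Vf a M).le.trans (le_iSup₂_of_le _ ⟨n + 1, ?_⟩ le_rfl)
      exact reach_cons ⟨S, edge_base, edge_normalizer ha edge_base⟩ (reach_cj a hn)
    have h0 := hB.kernel U hUS hUG hUN
    obtain ⟨v, hv, hvZ⟩ := exists_notMem_Zc hB (edge_base (G := G) (S := S))
    have : v ∈ U := (le_iSup₂_of_le (f := fun (M : Subgroup H) (_ : ∃ n, Reach G S n G M) =>
      Vf p G S M) G ⟨0, reach_zero⟩ le_rfl) hv
    rw [h0, mem_bot] at this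
    exact hvZ (this ▸ one_mem _)
  set b := Nat.find hex with hbdef
  have hN : Near p G S b := fun n hn K M hR => by
    by_contra hle
    exact Nat.find_min hex hn ⟨K, M, hR, hle⟩
  obtain ⟨K, M, ⟨f, hf0, hfb, hfA⟩, hbad⟩ := Nat.find_spec hex
  have hC : Crit p G S b f := ⟨hfA, by rwa [hf0, hfb]⟩
  have hpos := hC.pos hB
  rcases Nat.lt_or_ge b 2 with h2 | h2
  · have hb1 : b = 1 := by omega
    obtain ⟨P, hP0, hP1⟩ := hC.exists_last hB
    rw [hb1] at hP0 hP1
    simp only [Nat.sub_self] at hP0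
    refine Or.inl ⟨f 1, P, Vf p G S (f 0), hP1,
      { le := hC.last_le hB hN (by rwa [hb1])
        sup := ?_
        comm := fun t ht t' ht' => (V_cent hB hP0 ht' t (V_le hB hP0 ht))
        pow := fun t ht => V_pow hB hP0 ht
        comm_mem := fun u hu t ht => ?_
        split := fun d hd => ?_ }⟩
    · have h1 := (hC.rev hB hN).edge_le_sup hB hN (P := P) (by simpa [hb1] using hP1)
        (by simpa [hb1] using hP0)
      simpa [hb1] using h1
    · have h1 := inv_mem (comm_mem hB hP0 ht (Qf_le hP1 hu))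
      exact Zc_le_Vf hP1 (by simpa [commutatorElement_def, mul_assoc] using h1)
    · have h1 : P ≤ Vf p G S (f 1) ⊔ Qf G S (f 0) := by
        have := hC.edge_le_sup hB hN (P := P) hP0 hP1
        rwa [hb1] at this
      have hn : Vf p G S (f 1) ≤ normalizer (Qf G S (f 0) : Set H) := fun u hu =>
        le_normalizer_Qf _ (edge_le hB hP0 (V_le_edge hB hP1 hu))
      obtain ⟨v, hv, m, hm, rfl⟩ := exists_mul_of_mem_sup hn (h1 (Qf_le hP1 hd))
      refine ⟨v, hv, m, ?_, rfl, fun t ht => ?_⟩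
      · have := mul_mem (inv_mem (V_le hB hP1 hv)) hd
        rwa [inv_mul_cancel_left] at this
      · exact ((V_cent hB hP0 ht) m hm).symm
  obtain ⟨g, E, hg, hgood, hE, hS⟩ := exists_pushed hB h2 hN hC b
  by_cases hp : 3 ≤ b ∨ p = 2
  · exfalso
    have h1 := (hg.rev hB hN).good hB h2 hp hN hE.rev hS.rev
    simp only [Nat.sub_zero] at h1
    exact hgood (by omega) h1
  push Not at hp
  have hb2 : b = 2 := by omega
  clear_value b
  subst hb2
  obtain ⟨hP0, hP1⟩ := hE 0 (by omega)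
  obtain ⟨hP21, hP22⟩ := hE 1 (by omega)
  have hop1 : Op G S (g 1) (E 0) (E 1) := hS 0 (by omega) (by omega)
  obtain ⟨a, ha, hop0⟩ := other hB hP0
  obtain ⟨x, hx, hxG, hxbad⟩ := hg.shift hB le_rfl hN hP0 hP1 ha hop0
  change ¬ Vf p G S x ≤ Qf G S (g 1) at hxbad
  have hxbad' : ¬ Vf p G S (g 1) ≤ Qf G S x := by
    have := ((crit_cons hB ⟨a, hx, ha⟩ hg hxbad).rev hB hN).bad
    simpa using this
  have hone : ∀ {K M A : Subgroup H}, Edge G S K A → Edge G S M A →
      Vf p G S K ≤ Qf G S M := fun {K M A} h h' => hN 1 (by omega) K M (reach_one ⟨A, h, h'⟩)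
  set D := centralizer (g 0 : Set H) ⊓ Vf p G S (g 0) with hD
  have hx0 : ∀ c ∈ Qf G S (g 0), ∀ w ∈ Vf p G S x, ⁅c, w⁆ ∈ D := fun c hc w hw =>
    side_comm hB hN hP1 hP0 ha hx hop0 hxbad' hc hw
  have h10 : ∀ c ∈ Qf G S (g 0), ∀ w ∈ Vf p G S (g 1), ⁅c, w⁆ ∈ D := fun c hc w hw =>
    side_comm hB hN hx ha hP0 hP1 hop0.symm hxbad hc hw
  have h21 : ∀ c ∈ Qf G S (g 1), ∀ w ∈ Vf p G S (g 2),
      ⁅c, w⁆ ∈ centralizer (g 1 : Set H) ⊓ Vf p G S (g 1) := fun c hc w hw =>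
    side_comm hB hN hP0 hP1 hP21 hP22 hop1 hg.bad hc hw
  have hK1 : centralizer (g 1 : Set H) ⊓ Vf p G S (g 1) ≤ Zc p (E 0) := fun y hy =>
    V_inf_cent hB hP1 hy.2 fun k hk => hy.1 k (edge_le hB hP1 hk)
  set U0 := Vf p G S x ⊔ Vf p G S (g 1) with hU0
  set U := Vf p G S (g 0) ⊔ ⨆ (k : H) (_ : k ∈ g 0), cj k U0 with hU
  have hU0Q : U0 ≤ Qf G S (g 0) := sup_le (hone hx ha) (hone hP1 hP0)
  have hUQ : U ≤ Qf G S (g 0) := by
    refine sup_le (V_le hB hP0) (iSup₂_le fun k hk => (cj_mono hU0Q).trans_eq ?_)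
    rw [cj_Qf, cj_eq_self hk]
  have hVU : Vf p G S (g 0) ≤ U := le_sup_left
  have hU0U : U0 ≤ U :=
    le_trans (le_iSup₂_of_le (f := fun (k : H) (_ : k ∈ g 0) => cj k U0) 1 (one_mem _)
      (cj_one U0).ge) le_sup_right
  have hUn : g 0 ≤ normalizer (U : Set H) := by
    refine le_normalizer_of_conj fun l hl => ?_
    rw [hU, cj_sup, cj_Vf, cj_eq_self hl]
    refine sup_le le_sup_left ?_
    rw [cj, map_le_iff_le_comap]
    refine iSup₂_le fun k hk => ?_
    rw [← map_le_iff_le_comap]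
    refine le_trans ((cj_cj l k U0).le.trans ?_) le_sup_right
    exact le_iSup₂_of_le (f := fun (k : H) (_ : k ∈ g 0) => cj k U0) (l * k) (mul_mem hl hk) le_rfl
  have hQg : ∀ {u : H}, u ∈ Qf G S (g 0) → u ∈ g 0 := fun hu => edge_le hB hP0 (Qf_le hP0 hu)
  have hDfix : ∀ {k d : H}, k ∈ g 0 → d ∈ D → k * d * k⁻¹ = d := fun {k d} hk hd => by
    rw [hd.1 k hk, mul_inv_cancel_right]
  let Z : Subgroup H :=
    { carrier := {u | u ∈ Qf G S (g 0) ∧ ∀ c ∈ Qf G S (g 0), ⁅c, u⁆ ∈ D}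
      one_mem' := ⟨one_mem _, fun c _ => by rw [commutatorElement_one_right]; exact one_mem _⟩
      mul_mem' := fun {u v} hu hv => ⟨mul_mem hu.1 hv.1, fun c hc => by
        rw [comm_mul_right, hDfix (hQg hu.1) (hv.2 c hc)]
        exact mul_mem (hu.2 c hc) (hv.2 c hc)⟩
      inv_mem' := fun {u} hu => ⟨inv_mem hu.1, fun c hc => by
        have e : ⁅c, u⁻¹⁆ = u⁻¹ * ⁅c, u⁆⁻¹ * u⁻¹⁻¹ := by
          simp only [commutatorElement_def]; group
        rw [e, hDfix (inv_mem (hQg hu.1)) (inv_mem (hu.2 c hc))]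
        exact inv_mem (hu.2 c hc)⟩ }
  have hUZ : U ≤ Z := by
    refine sup_le (fun u hu => ⟨V_le hB hP0 hu, fun c hc => ?_⟩) (iSup₂_le fun k hk => ?_)
    · rw [comm_eq_one_of (V_cent hB hP0 hu c hc)]
      exact one_mem _
    have h0 : U0 ≤ Z := sup_le (fun u hu => ⟨hone hx ha hu, fun c hc => hx0 c hc u hu⟩)
      (fun u hu => ⟨hone hP1 hP0 hu, fun c hc => h10 c hc u hu⟩)
    rintro _ ⟨u, hu, rfl⟩
    refine ⟨?_, fun c hc => ?_⟩
    · exact ((mem_normalizer_iff.1 (le_normalizer_Qf _ hk)) u).1 (h0 hu).1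
    · have hc' : k⁻¹ * c * k ∈ Qf G S (g 0) :=
        ((mem_normalizer_iff''.1 (le_normalizer_Qf _ hk)) c).1 hc
      have h1 := (h0 hu).2 _ hc'
      show ⁅c, k * u * k⁻¹⁆ ∈ D
      rw [show c = k * (k⁻¹ * c * k) * k⁻¹ by group, comm_conj, hDfix hk h1]
      exact h1
  have hUpow : ∀ u ∈ U, u ^ p = 1 := by
    let R : Subgroup H :=
      { carrier := {u | u ∈ U ∧ u ^ p = 1}
        one_mem' := ⟨one_mem _, one_pow p⟩
        mul_mem' := fun {u v} hu hv => ⟨mul_mem hu.1 hv.1, by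
          have hd := (hUZ hu.1).2 v (hUQ hv.1)
          have hca : Commute ⁅v, u⁆ u := (hd.1 u (hQg (hUQ hu.1))).symm
          have hcb : Commute ⁅v, u⁆ v := (hd.1 v (hQg (hUQ hv.1))).symm
          rw [mul_pow_of_comm hca hcb (by rw [commutatorElement_def]; group) p, hu.2, hv.2,
            one_mul, mul_one]
          have hdvd : p ∣ p.choose 2 :=
            hpp.dvd_choose_self two_ne_zero (hpp.two_le.lt_of_ne' hp.2)
          obtain ⟨m, hm⟩ := hdvd
          rw [hm, pow_mul, V_pow hB hP0 hd.2, one_pow]⟩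
        inv_mem' := fun {u} hu => ⟨inv_mem hu.1, by rw [inv_pow, hu.2, inv_one]⟩ }
    have hle : U ≤ R := by
      refine sup_le (fun u hu => ⟨hVU hu, V_pow hB hP0 hu⟩) (iSup₂_le fun k hk => ?_)
      have h0 : U0 ≤ R := sup_le (fun u hu => ⟨hU0U (mem_sup_left hu), V_pow hB hx hu⟩)
        (fun u hu => ⟨hU0U (mem_sup_right hu), V_pow hB hP1 hu⟩)
      rintro _ ⟨u, hu, rfl⟩
      refine ⟨((mem_normalizer_iff.1 (hUn hk)) u).1 (h0 hu).1, ?_⟩
      rw [← map_pow, (h0 hu).2, map_one]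
    exact fun u hu => (hle hu).2
  have hTP : Vf p G S (g 2) ≤ E 0 := hg.first_le hB hN hP1
  have hsupx : E 0 ≤ Vf p G S x ⊔ Qf G S (g 1) := by
    have h1 := ((crit_cons hB ⟨a, hx, ha⟩ hg hxbad).rev hB hN).edge_le_sup hB hN (P := E 0)
      (by simpa using hP1) (by simpa using hP0)
    simpa using h1
  refine Or.inr ⟨g 0, E 0, Vf p G S (g 2), U, Vf p G S (g 1), Qf G S (g 1),
    centralizer (g 1 : Set H) ⊓ Vf p G S (g 1), Vf p G S x ⊔ Vf p G S (g 0), a, hP0, ha,
    { ne_two := hp.2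
      le := hTP
      sup := hg.edge_le_sup hB hN hP0 hP1
      comm := fun t ht t' ht' => V_cent hB hP22 ht' t (V_le hB hP22 ht)
      pow := fun t ht => V_pow hB hP22 ht
      T_le := hone hP22 hP21
      U_le := hUQ
      U_ge := hVU
      U_norm := hUn
      U_pow := hUpow
      U_comm := fun c hc u hu => (hUZ hu).2 c hc
      DT := ?_
      Q1_le := Qf_le hP1
      Q1_V := hone hP0 hP1
      Q1_cent := fun u hu c hc => (V_cent hB hP1 hu c hc).symm
      Q1_card := (card_P hB hP1).le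
      Q1_T := h21
      K1_le := hK1
      V1_U := le_sup_right.trans hU0U
      V1_Q1 := V_le hB hP1
      V1_not := fun hle => ?_
      V1_comm := fun u hu s hs => by
        rw [commutatorElement_def]; exact comm_mem hB hP1 hu hs
      V1_card := (card_V hB hP1).ge
      Z_V1 := Zc_le_Vf hP1
      Q1_norm := fun k hk => le_normalizer_Qf _ (edge_le hB hP1 hk)
      cover := fun u hu hu' s hs hs' hc => cover hB hP1 hu hu' hs hs' (by
        rw [← commutatorElement_def]; exact hc.1)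
      split := fun d hd hd' => ?_
      move := fun t ht m hm hm' hc => ?_
      W_ge := le_sup_right
      W_le := sup_le (le_sup_left.trans hU0U) hVU
      W_norm := ?_
      W_not := hxG }⟩
  · intro c hc t ht
    have hn : Vf p G S x ≤ normalizer (Qf G S (g 1) : Set H) := fun u hu =>
      le_normalizer_Qf _ (edge_le hB hP1 (Qf_le hP0 (hone hx ha hu)))
    obtain ⟨v, hv, m, hm, rfl⟩ := exists_mul_of_mem_sup hn (hsupx (Qf_le hP0 hc))
    have hvU : v ∈ U := hU0U (mem_sup_left hv)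
    have hmU : ⁅m, t⁆ ∈ U := hU0U (mem_sup_right (h21 m hm t ht).2)
    rw [comm_mul_left]
    refine mul_mem (mul_mem (mul_mem hvU hmU) (inv_mem hvU)) ?_
    rw [commutatorElement_def, mul_assoc v t, mul_assoc v]
    exact mul_mem hvU (((mem_normalizer_iff.1 (hUn (edge_le hB hP0 (hTP ht)))) _).1 (inv_mem hvU))
  · obtain ⟨v, hv, hvZ⟩ := exists_notMem_Zc hB hP1
    exact hvZ (hle hv)
  · have h1 : E 1 ≤ Vf p G S (g 0) ⊔ Qf G S (g 2) := by
      have := (hg.rev hB hN).edge_le_sup hB hN (P := E 1) (by simpa using hP22)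
        (by simpa using hP21)
      simpa using this
    have hn : Vf p G S (g 0) ≤ normalizer (Qf G S (g 2) : Set H) := fun u hu =>
      le_normalizer_Qf _ (edge_le hB hP22 (Qf_le hP21 (hone hP0 hP1 hu)))
    obtain ⟨v, hv, m, hm, rfl⟩ := exists_mul_of_mem_sup hn (h1 (Qf_le hP21 hd'))
    refine ⟨v, hv, m, ?_, rfl, fun t ht => ((V_cent hB hP22 ht) m hm).symm⟩
    have := mul_mem (inv_mem (V_le hB hP0 hv)) hd
    rwa [inv_mul_cancel_left] at this
  · -- the neighbour `g 1` fixes `t` modulo its `V`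
    set N := normalizer (Vf p G S (g 1) : Set H)
    let Fx : Subgroup H :=
      { carrier := {y | y ∈ g 1 ∧ ⁅y, t⁆ ∈ Vf p G S (g 1)}
        one_mem' := ⟨one_mem _, by rw [commutatorElement_one_left]; exact one_mem _⟩
        mul_mem' := fun {y z} hy hz => ⟨mul_mem hy.1 hz.1, by
          rw [comm_mul_left]
          exact mul_mem ((mem_normalizer_iff.1 (le_normalizer_Vf _ hy.1) _).1 hz.2) hy.2⟩
        inv_mem' := fun {y} hy => ⟨inv_mem hy.1, by
          rw [show ⁅y⁻¹, t⁆ = y⁻¹ * ⁅y, t⁆⁻¹ * y by simp only [commutatorElement_def]; group]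
          exact ((mem_normalizer_iff''.1 (le_normalizer_Vf _ hy.1)) _).1 (inv_mem hy.2)⟩ }
    have hle : g 1 ≤ Fx := by
      rw [← hop1.1 m hm hm']
      refine sup_le (zpowers_le.2 ⟨edge_le hB hP1 hm, hc⟩) fun e he => ⟨edge_le hB hP21 he, ?_⟩
      have h1 := inv_mem (comm_mem hB hP22 ht he)
      exact Zc_le_Vf hP21 (by simpa [commutatorElement_def, mul_assoc] using h1)
    obtain ⟨k, hk, hkE⟩ := edges_conj hB hP21 hP1
    have h1 : ⁅k, t⁆ ∈ Qf G S (g 0) := hone hP1 hP0 (hle hk).2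
    have h2 : k * t * k⁻¹ ∈ Qf G S (g 0) := by
      have hadj : Edge G S (cj k (g 2)) (E 0) := hkE ▸ edge_cj k hP22
      refine hone hadj hP0 ?_
      rw [← cj_Vf]
      exact conj_mem_cj.2 ht
    have h3 := mul_mem (inv_mem h1) h2
    rwa [show ⁅k, t⁆⁻¹ * (k * t * k⁻¹) = t by simp only [commutatorElement_def]; group] at h3
  · intro u hu
    exact mem_normalizer_of_cj_eq (by
      rw [cj_sup, cj_Vf, cj_Vf, cj_eq_self (edge_le hB hx hu), cj_eq_self (edge_le hB ha hu)])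

omit hB

variable {X : Type*} [Group X] [Finite X] [Fact p.Prime] {F : Type} [Field F] [Fintype F]
  {ψ : X →* Matrix.ProjectiveSpecialLinearGroup (Fin 2) F} {S₀ : Sylow p X}

/-- The two outcomes in `X`. -/
theorem exists_case_sit (h : Sit p ψ S₀) :
    (∃ T : Subgroup X, One p ⊤ (S₀ : Subgroup X) (Cfsg.pCore p X)
      (normalClosure (Zc p (S₀ : Subgroup X) : Set X)) T) ∨
    (∃ (T U V1 Q1 K1 W : Subgroup X) (A : Sylow p X), Two p (Fintype.card F) ⊤ (S₀ : Subgroup X)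
      (Cfsg.pCore p X) (normalClosure (Zc p (S₀ : Subgroup X) : Set X)) T U V1 Q1 K1 W
      (A : Subgroup X)) := by
  obtain ⟨hB, hVf, hQf⟩ := h.exists_base
  have hinj := reg_injective (X := X)
  have hφ : ∀ k : Equiv.Perm X, Function.Injective
      ((MulAut.conj k).toMonoidHom.comp (reg X)) := fun k =>
    (MulAut.conj k).injective.comp hinj
  have hmap : ∀ (k : Equiv.Perm X) (A : Subgroup X),
      A.map ((MulAut.conj k).toMonoidHom.comp (reg X)) = cj k (A.map (reg X)) := fun k A =>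
    (map_map A _ _).symm
  have hrange : ∀ k : Equiv.Perm X,
      cj k (reg X).range = ((MulAut.conj k).toMonoidHom.comp (reg X)).range := fun k =>
    (MonoidHom.range_comp _ _).symm
  rcases exists_case hB Fact.out with
    ⟨K, P, T, ⟨k, rfl, rfl⟩, hT⟩ | ⟨K, P, T, U, V1, Q1, K1, W, a, ⟨k, rfl, rfl⟩, ha, hT⟩
  · rw [← cj_Qf, hQf, ← cj_Vf, hVf, ← hmap, ← hmap, ← hmap, hrange] at hT
    exact Or.inl ⟨_, hT.comap (hφ k)⟩
  · obtain ⟨l, hl, rfl⟩ := edges_conj hB ⟨k, rfl, rfl⟩ ha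
    obtain ⟨_, ⟨g, rfl⟩, rfl⟩ := hl
    have ea : cj ((MulAut.conj k).toMonoidHom (reg X g))
        (cj k ((S₀ : Subgroup X).map (reg X))) =
        ((g • S₀ : Sylow p X) : Subgroup X).map ((MulAut.conj k).toMonoidHom.comp (reg X)) := by
      rw [hmap, ← cj_sylow, map_cj, cj_cj, cj_cj]
      congr 1
      simp [MulAut.conj_apply, mul_assoc]
    rw [ea, ← cj_Qf, hQf, ← cj_Vf, hVf, ← hmap, ← hmap, ← hmap, hrange] at hT
    exact Or.inr ⟨_, _, _, _, _, _, _, hT.comap (hφ k)⟩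

end H80.PU
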