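import Cfsg.Agent.H80.PU.XFacts
import Cfsg.Agent.H78.BlockModule
import Cfsg.Agent.H10.StableClosure
import Cfsg.Agent.H80.LCSS.Group

/-!
The body of a block, and the two general steps of the construction inside `X`: the `p`-core of
`O^p(X)` is `[O_p(X), O^p(X)]`, and it carries a natural module.
-/

set_option autoImplicit false
set_option linter.unusedSectionVars false
set_option linter.style.haveILetI false

open Subgroup Matrix
open scoped MatrixGroups commutatorElement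

namespace H80.PU

/-- The properties of a linear block which only mention the block and a Baumann subgroup `B`. -/
def LinBody (p : ℕ) {G : Type*} [Group G] (F : Type) [Field F] [Fintype F] (n : ℕ)
    (E B : Subgroup G) : Prop :=
  Cfsg.pResidualOf p E = E ∧ ⁅E, B⁆ = E ∧ ⁅Cfsg.pCoreOf p E, E⁆ = Cfsg.pCoreOf p E ∧
    Nonempty (↥E ⧸ Cfsg.pCore p ↥E ≃* ↥(commutator (Matrix.SpecialLinearGroup (Fin 2) F))) ∧
    Cfsg.ActsAsSL2OnSection F (commutator (Matrix.SpecialLinearGroup (Fin 2) F)) E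
      (Cfsg.omegaOneCenter p (Cfsg.pCoreOf p E))
      (Cfsg.omegaOneCenter p (Cfsg.pCoreOf p E) ⊓ centralizer (E : Set G)) ∧
    (Cfsg.pCoreOf p E = Cfsg.omegaOneCenter p (Cfsg.pCoreOf p E) ∨
      (p = 3 ∧
        Cfsg.ActsAsSL2OnSection F (commutator (Matrix.SpecialLinearGroup (Fin 2) F)) E
          (Cfsg.pCoreOf p E) (Cfsg.omegaOneCenter p (Cfsg.pCoreOf p E)) ∧
        ⁅Cfsg.pCoreOf p E, Cfsg.pCoreOf p E⁆ =
          Cfsg.omegaOneCenter p (Cfsg.pCoreOf p E) ⊓ centralizer (E : Set G) ∧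
        (frattini ↥(Cfsg.pCoreOf p E)).map (Cfsg.pCoreOf p E).subtype =
          Cfsg.omegaOneCenter p (Cfsg.pCoreOf p E) ⊓ centralizer (E : Set G) ∧
        E ⊓ centralizer (E : Set G) =
          Cfsg.omegaOneCenter p (Cfsg.pCoreOf p E) ⊓ centralizer (E : Set G) ∧
        Nat.card ↥(E ⊓ centralizer (E : Set G)) = 3 ^ n ∧
        ∀ b : G, b ∈ B → b ∉ centralizer (Cfsg.omegaOneCenter p (Cfsg.pCoreOf p E) : Set G) →
          ¬ ⁅⁅Cfsg.pCoreOf p E, zpowers b⁆, zpowers b⁆ ≤ E ⊓ centralizer (E : Set G)))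

open H71.BGNP

variable {X : Type*} [Group X] [Finite X] {p : ℕ} [Fact p.Prime] {F : Type} [Field F] [Fintype F]
  {ψ : X →* Matrix.ProjectiveSpecialLinearGroup (Fin 2) F} {S : Sylow p X} (h : Sit p ψ S)
include h

theorem commutator_core_idem :
    ⁅⁅Cfsg.pCore p X, opX p X⁆, opX p X⁆ = ⁅Cfsg.pCore p X, opX p X⁆ := by
  haveI := opX_normal (p := p) (X := X)
  haveI := H1.pCore_normal' p X
  refine le_antisymm (commutator_le_left _ _) ?_
  exact H74.PRed.commutator_resOf_le (H1.isPGroup_pCore p X)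
    (le_top.trans (normalizer_eq_top _).ge)

/-- The `p`-core of `O^p(X)` is `[O_p(X), O^p(X)]`. -/
theorem core_eq {T : Subgroup X} (hsup : (S : Subgroup X) ≤ T ⊔ Cfsg.pCore p X)
    (hcomm : ∀ t ∈ T, ∀ t' ∈ T, t * t' = t' * t)
    (hsplit : ∀ d ∈ Cfsg.pCore p X, ∃ v ∈ ⁅Cfsg.pCore p X, opX p X⁆ ⊔
        normalClosure (Zc p (S : Subgroup X) : Set X),
      ∃ c ∈ Cfsg.pCore p X, d = v * c ∧ ∀ t ∈ T, t * c = c * t) :
    Cfsg.pCoreOf p (opX p X) = ⁅Cfsg.pCore p X, opX p X⁆ := by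
  obtain ⟨-, hVC, -, -, -, -, -, -⟩ := module_facts h
  set D := Cfsg.pCore p X with hD
  set E := opX p X with hE
  set P0 := ⁅D, E⁆ with hP0
  set V := normalClosure (Zc p (S : Subgroup X) : Set X) with hV
  haveI hEn : E.Normal := opX_normal
  haveI hDn : D.Normal := H1.pCore_normal' p X
  haveI hP0n : P0.Normal := inferInstance
  rw [core_opX h]
  refine le_antisymm ?_ (le_inf (commutator_le_right _ _) (commutator_le_left _ _))
  set π := QuotientGroup.mk' P0 with hπ
  have hker : ∀ {x : X}, π x = 1 ↔ x ∈ P0 := fun {x} => QuotientGroup.eq_one_iff x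
  have hED : ∀ d ∈ D, ∀ e ∈ E, π d * π e = π e * π d := fun d hd e he => by
    rw [← commutatorElement_eq_one_iff_mul_comm, ← map_commutatorElement, hker]
    exact commutator_mem_commutator hd he
  have hvc : ∀ v ∈ P0 ⊔ V, ∀ d ∈ D, π v * π d = π d * π v := by
    intro v hv d hd
    have hle : P0 ⊔ V ≤ (centralizer {π d}).comap π := by
      refine sup_le (fun x hx => ?_) (fun x hx => ?_)
      · show π x ∈ centralizer {π d}
        rw [hker.2 hx]; exact one_mem _
      · refine mem_centralizer_singleton_iff.2 ?_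
        rw [← map_mul, ← map_mul, (hVC hx) d hd]
    exact mem_centralizer_singleton_iff.1 (hle hv)
  -- two elements of `E` in `S` commute modulo `P0`
  have hab : ∀ x ∈ E, x ∈ (S : Subgroup X) → ∀ y ∈ E, y ∈ (S : Subgroup X) →
      π x * π y = π y * π x := by
    have hdec : ∀ x ∈ E, x ∈ (S : Subgroup X) → ∃ t ∈ T, ∃ d ∈ D, π x = π t * π d ∧
        (∀ c ∈ D, (∀ t ∈ T, t * c = c * t) → π d * π c = π c * π d) := by
      intro x hx hxS
      obtain ⟨d₀, hd₀, t, ht, rfl⟩ := H1.exists_mul_of_mem_sup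
        (le_top.trans (normalizer_eq_top D).ge : T ≤ _) (by rw [sup_comm]; exact hsup hxS)
      have hd : t⁻¹ * d₀ * t ∈ D := by simpa using hDn.conj_mem d₀ hd₀ t⁻¹
      have e : d₀ * t = t * (t⁻¹ * d₀ * t) := by group
      rw [e] at hx ⊢
      generalize t⁻¹ * d₀ * t = d at hx hd ⊢
      refine ⟨t, ht, d, hd, map_mul _ _ _, fun c hc hct => ?_⟩
      have h1 : π (t * d) * π c = π c * π (t * d) := (hED c hc _ hx).symm
      have h2 : π t * π c = π c * π t := by rw [← map_mul, ← map_mul, hct t ht]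
      rw [map_mul, mul_assoc, ← mul_assoc (π c), ← h2, mul_assoc] at h1
      exact mul_left_cancel h1
    intro x hx hxS y hy hyS
    obtain ⟨t, ht, d, hd, ex, hdc⟩ := hdec x hx hxS
    obtain ⟨t', ht', d', hd', ey, hdc'⟩ := hdec y hy hyS
    obtain ⟨v', hv', c', hc', rfl, hct'⟩ := hsplit d' hd'
    have h1 : π d * π (v' * c') = π (v' * c') * π d := by
      rw [map_mul, ← mul_assoc, ← hvc v' hv' d hd, mul_assoc, hdc c' hc' hct', mul_assoc]
    have h2 : π t * π t' = π t' * π t := by rw [← map_mul, ← map_mul, hcomm t ht t' ht']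
    have h3 : π x * π (v' * c') = π (v' * c') * π x := (hED _ hd' x hx).symm
    have h4 : π y * π d = π d * π y := (hED _ hd y hy).symm
    have h5 : π t * π (v' * c') = π (v' * c') * π t := by
      rw [ex, mul_assoc, h1, ← mul_assoc, ← mul_assoc] at h3
      exact mul_right_cancel h3
    calc π x * π y = π t * (π d * π y) := by rw [ex, mul_assoc]
      _ = π t * (π t' * π (v' * c') * π d) := by rw [← h4, ey]
      _ = π t' * (π t * π (v' * c')) * π d := by simp only [← mul_assoc]; rw [h2]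
      _ = π t' * π (v' * c') * (π t * π d) := by rw [h5]; simp only [mul_assoc]
      _ = π y * π x := by rw [← ey, ← ex]
  intro z hz
  rw [← hker]
  set ē : ↥E →* ↥(E.map π) := π.subgroupMap E with hē
  have hēs : Function.Surjective ē := π.subgroupMap_surjective E
  have hzc : ē ⟨z, hz.1⟩ ∈ center ↥(E.map π) := by
    refine mem_center_iff.2 fun g => ?_
    obtain ⟨e, rfl⟩ := hēs g
    exact Subtype.ext (hED z hz.2 e e.2).symm
  have hzd : ē ⟨z, hz.1⟩ ∈ commutator ↥(E.map π) := by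
    rw [← Abelianization.ker_of]
    exact map_eq_one_of_resOf opX_res ((Abelianization.of).comp ē) (H1.isPGroup_pCore p X) hz.2
  obtain ⟨Q, hQ⟩ := H75.exists_sylow_inf_normal S E
  have hzQ : (⟨z, hz.1⟩ : ↥E) ∈ (Q : Subgroup ↥E) := by
    have : z ∈ (S : Subgroup X) ⊓ E := ⟨H1.pCore_le_sylow S hz.2, hz.1⟩
    rw [← hQ] at this
    obtain ⟨w, hw, hwe⟩ := this
    rwa [show (⟨z, hz.1⟩ : ↥E) = w from Subtype.ext hwe.symm]
  set Q' := Q.mapSurjective hēs with hQ'
  have hzQ' : ē ⟨z, hz.1⟩ ∈ (Q' : Subgroup ↥(E.map π)) := by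
    rw [hQ', Sylow.coe_mapSurjective]; exact mem_map_of_mem ē hzQ
  have h1 := H97.mem_commutator_sylow Q' hzc hzd hzQ'
  have hQab : commutator ↥(Q' : Subgroup ↥(E.map π)) = ⊥ := by
    rw [_root_.commutator_def, commutator_eq_bot_iff_le_centralizer]
    rintro ⟨a, ha⟩ - ⟨b, hb⟩ -
    have ha' := ha
    have hb' := hb
    rw [hQ', Sylow.coe_mapSurjective] at ha' hb'
    obtain ⟨a, ha', rfl⟩ := ha'
    obtain ⟨b, hb', rfl⟩ := hb'
    have hQS : ∀ w : ↥E, w ∈ (Q : Subgroup ↥E) → (w : X) ∈ (S : Subgroup X) := fun w hw => by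
      have : (w : X) ∈ (Q : Subgroup ↥E).map E.subtype := mem_map_of_mem _ hw
      rw [hQ] at this
      exact this.1
    exact Subtype.ext (Subtype.ext (hab b b.2 (hQS b hb') a a.2 (hQS a ha')))
  rw [hQab, mem_bot] at h1
  exact congrArg (fun w : ↥(E.map π) => (w : X ⧸ P0)) (congrArg Subtype.val h1)

/-- A subgroup of a noncentral chief factor invariant under `O^p(X)` is a natural module. -/
theorem exists_acts {P U W : Subgroup X} [W.Normal] (hc : Cfsg.IsChiefFactor U W)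
    (hUQ : U ≤ Cfsg.pCore p X) (hnc : ¬ ⁅U, (⊤ : Subgroup X)⁆ ≤ W) (hPU : P ≤ U)
    (hPn : P.Normal) (hPW : ¬ P ≤ W) :
    Cfsg.ActsAsSL2OnSection F (commutator (Matrix.SpecialLinearGroup (Fin 2) F)) (opX p X) P
      (P ⊓ W) := by
  obtain ⟨S', r, hS', hr, -, hmap⟩ := exists_hom h
  set π := QuotientGroup.mk' W with hπ
  obtain ⟨θ, hθ⟩ : ∃ θ : (Fin 2 → F) ≃+ Additive (U.map π), ∀ g v,
      π g * ((Additive.toMul (θ v) : U.map π) : X ⧸ W) * (π g)⁻¹ =
        ((Additive.toMul (θ (((r g : SL(2, F)) : Matrix (Fin 2) (Fin 2) F).mulVec v)) :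
          U.map π) : X ⧸ W) := h.natural_data hS' hr hc hUQ hnc
  let ψ' : ↥P →* Multiplicative (Fin 2 → F) := MonoidHom.mk'
    (fun u => Multiplicative.ofAdd (θ.symm (Additive.ofMul ⟨π u, mem_map_of_mem π (hPU u.2)⟩)))
    (fun a b => by
      show Multiplicative.ofAdd _ = Multiplicative.ofAdd _ * Multiplicative.ofAdd _
      rw [← ofAdd_add, ← map_add, ← ofMul_mul]
      congr 3)
  have hker : ∀ u : ↥P, ψ' u = 1 ↔ (u : X) ∈ W := fun u => by
    show Multiplicative.ofAdd (θ.symm _) = 1 ↔ _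
    rw [ofAdd_eq_one, map_eq_zero_iff _ θ.symm.injective, ofMul_eq_zero]
    exact ⟨fun h => (QuotientGroup.eq_one_iff _).1 (congrArg Subtype.val h),
      fun h => Subtype.ext ((QuotientGroup.eq_one_iff _).2 h)⟩
  have hact : ∀ (g : X) (u : ↥P), Multiplicative.toAdd
      (ψ' ⟨g * (u : X) * g⁻¹, hPn.conj_mem _ u.2 g⟩) =
        ((r g : SL(2, F)) : Matrix (Fin 2) (Fin 2) F).mulVec (Multiplicative.toAdd (ψ' u)) := by
    intro g u
    show θ.symm _ = _
    apply θ.injective
    rw [AddEquiv.apply_symm_apply]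
    apply Additive.toMul.injective
    refine Subtype.ext ?_
    rw [← hθ g]
    show π (g * (u : X) * g⁻¹) = π g * ((Additive.toMul (θ (θ.symm _)) : U.map π) : X ⧸ W) * (π g)⁻¹
    rw [AddEquiv.apply_symm_apply, map_mul, map_mul, map_inv]
    rfl
  refine ⟨le_top.trans (normalizer_eq_top_iff.2 hPn).ge, inf_le_left,
    (r.comp (opX p X).subtype), ψ', ?_, ?_, fun u => ?_, fun e u => ?_⟩
  · rw [MonoidHom.range_comp, range_subtype, hmap]
  · let A : AddSubgroup (Fin 2 → F) := Subgroup.toAddSubgroup' ψ'.range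
    have hA : ∀ g ∈ commutator SL(2, F), ∀ v ∈ A,
        (g : Matrix (Fin 2) (Fin 2) F).mulVec v ∈ A := by
      intro g hg v hv
      rw [← hmap] at hg
      obtain ⟨e, -, rfl⟩ := hg
      obtain ⟨x, hx⟩ := (hv : Multiplicative.ofAdd v ∈ ψ'.range)
      refine (?_ : Multiplicative.ofAdd _ ∈ ψ'.range)
      refine ⟨⟨e * (x : X) * e⁻¹, hPn.conj_mem _ x.2 e⟩, ?_⟩
      apply Multiplicative.toAdd.injective
      rw [hact, hx]
      rfl
    rcases H78.Block.sl2_irreducible A hA with h0 | h1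
    · exfalso
      refine hPW fun u hu => (hker ⟨u, hu⟩).1 ?_
      have : Multiplicative.toAdd (ψ' ⟨u, hu⟩) ∈ A :=
        (⟨⟨u, hu⟩, rfl⟩ : Multiplicative.ofAdd _ ∈ ψ'.range)
      rwa [h0, AddSubgroup.mem_bot, toAdd_eq_zero] at this
    · intro v
      exact (h1 ▸ AddSubgroup.mem_top _ : Multiplicative.toAdd v ∈ A)
  · rw [hker, Subgroup.mem_inf]
    exact ⟨fun hW => ⟨u.2, hW⟩, fun hW => hW.2⟩
  · exact ⟨⟨(e : X) * (u : X) * (e : X)⁻¹, hPn.conj_mem _ u.2 e⟩, rfl, hact e u⟩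

/-- `O^p(X)` modulo its core. -/
theorem exists_iso : Nonempty (↥(opX p X) ⧸ Cfsg.pCore p ↥(opX p X) ≃*
    ↥(commutator (Matrix.SpecialLinearGroup (Fin 2) F))) := by
  obtain ⟨S', r, hS', hr, hker, hmap⟩ := exists_hom h
  set E := opX p X
  let ρ : ↥E →* ↥(commutator (Matrix.SpecialLinearGroup (Fin 2) F)) :=
    (r.comp E.subtype).codRestrict _ fun e => hmap ▸ mem_map_of_mem r e.2
  have hρs : Function.Surjective ρ := fun ⟨g, hg⟩ => by
    rw [← hmap] at hg
    obtain ⟨e, he, rfl⟩ := hg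
    exact ⟨⟨e, he⟩, rfl⟩
  have hρk : ρ.ker = Cfsg.pCore p ↥E := by
    apply Subgroup.map_injective E.subtype_injective
    rw [show (Cfsg.pCore p ↥E).map E.subtype = Cfsg.pCoreOf p E from rfl, core_opX h, ← hker]
    ext x
    constructor
    · rintro ⟨y, hy, rfl⟩
      exact ⟨y.2, congrArg Subtype.val (MonoidHom.mem_ker.1 hy)⟩
    · rintro ⟨hx, hx'⟩
      exact ⟨⟨x, hx⟩, MonoidHom.mem_ker.2 (Subtype.ext hx'), rfl⟩
  haveI := H1.pCore_normal' p ↥E
  exact ⟨(QuotientGroup.quotientMulEquivOfEq hρk.symm).trans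
    (QuotientGroup.quotientKerEquivOfSurjective ρ hρs)⟩

/-- `[O^p(X), S] = O^p(X)`. -/
theorem commutator_sylow : ⁅opX p X, (S : Subgroup X)⁆ = opX p X := by
  set E := opX p X
  haveI hEn : E.Normal := opX_normal
  refine le_antisymm (commutator_le_left _ _) ?_
  set M := ⁅E, (S : Subgroup X)⁆ with hM
  have hMn : M.Normal := by
    refine normalizer_eq_top_iff.1 (top_le_iff.1 ((opX_sup_sylow S).ge.trans (sup_le ?_ ?_)))
    · exact H1.left_le_normalizer_commutator
    · exact H1.right_le_normalizer_commutator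
  haveI := hMn
  haveI hfn := fixMod_normal E M
  have htop : fixMod E M = ⊤ := eq_top_of_sylow_le h hfn fun s hs => mem_fixMod.2 fun e he =>
    commutator_mem_commutator he hs
  -- `X / M` has abelian `O^p`, covered by the normal subgroup `S M`
  have hEE : ⁅E, E⁆ ≤ M := commutator_le.2 fun a ha b _ => mem_fixMod.1 (htop ▸ mem_top b) a ha
  have hSM : (M ⊔ (S : Subgroup X)).Normal := by
    refine normalizer_eq_top_iff.1 (top_le_iff.1 ((opX_sup_sylow S).ge.trans (sup_le ?_ ?_)))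
    · refine H75.le_normalizer_of_conj fun e he a ha => ?_
      have h1 : ⁅e, a⁆ ∈ M := by
        have : a ∈ fixMod E M := htop ▸ mem_top a
        exact mem_fixMod.1 this e he
      have := mul_mem (mem_sup_left h1 : ⁅e, a⁆ ∈ M ⊔ (S : Subgroup X)) ha
      simpa [commutatorElement_def] using this
    · exact le_sup_right.trans le_normalizer
  exact H75.resOf_le_of_sup (le_top.trans (normalizer_eq_top M).ge) S.isPGroup'
    (eq_top_of_sylow_le h hSM le_sup_right)

end H80.PU
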