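import Cfsg.Agent.H80.PU.Amalgam
import Cfsg.Agent.H80.PU.Core

/-!
The first outcome gives a block with abelian core.
-/

set_option autoImplicit false
set_option linter.unusedSectionVars false
set_option linter.style.haveILetI false

open Subgroup Matrix
open scoped MatrixGroups commutatorElement

namespace H80.PU

open H71.BGNP

variable {X : Type*} [Group X] [Finite X] {p : ℕ} [Fact p.Prime] {F : Type} [Field F] [Fintype F]
  {ψ : X →* Matrix.ProjectiveSpecialLinearGroup (Fin 2) F} {S : Sylow p X} (h : Sit p ψ S)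

omit [Finite X] [Fact p.Prime] in
/-- An elementary abelian group is `Ω₁` of its centre. -/
theorem omega_eq_self {P : Subgroup X} (hc : ∀ a ∈ P, ∀ b ∈ P, a * b = b * a)
    (hp : ∀ a ∈ P, a ^ p = 1) : Cfsg.omegaOneCenter p P = P :=
  le_antisymm ((H75.omegaOne_le (p := p) _).trans inf_le_left)
    fun x hx => subset_closure ⟨⟨hx, mem_centralizer_iff.2 fun y hy => hc y hy x hx⟩, hp x hx⟩

include h

/-- The centraliser of `V` lies in the core. -/
theorem cent_V_le :
    centralizer (normalClosure (Zc p (S : Subgroup X) : Set X) : Set X) ≤ Cfsg.pCore p X := by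
  obtain ⟨S', r, hS', hr, hker, -⟩ := exists_hom h
  obtain ⟨hVQ, -⟩ := module_facts h
  obtain ⟨hch, hnc⟩ := h.chief_V
  haveI := normalClosure_normal (s := (Zc p (S : Subgroup X) : Set X))
  set V := normalClosure (Zc p (S : Subgroup X) : Set X) with hV
  set π := QuotientGroup.mk' (V ⊓ center X) with hπ
  obtain ⟨θ, hθ⟩ : ∃ θ : (Fin 2 → F) ≃+ Additive (V.map π), ∀ g v,
      π g * ((Additive.toMul (θ v) : V.map π) : X ⧸ (V ⊓ center X)) * (π g)⁻¹ =
        ((Additive.toMul (θ (((r g : SL(2, F)) : Matrix (Fin 2) (Fin 2) F).mulVec v)) :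
          V.map π) : X ⧸ (V ⊓ center X)) := h.natural_data hS' hr hch hVQ hnc
  intro x hx
  rw [← hker, MonoidHom.mem_ker]
  have hfix : ∀ v, ((r x : SL(2, F)) : Matrix (Fin 2) (Fin 2) F).mulVec v = v := fun v => by
    apply θ.injective
    apply Additive.toMul.injective
    refine Subtype.ext ?_
    rw [← hθ x]
    obtain ⟨u, hu, he⟩ := (Additive.toMul (θ v)).2
    rw [← he, ← map_mul, ← map_inv, ← map_mul, ← mem_centralizer_iff.1 hx u hu,
      mul_inv_cancel_right]
  apply Subtype.ext
  refine Matrix.ext_of_mulVec_single fun i => ?_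
  rw [hfix, Matrix.SpecialLinearGroup.coe_one, Matrix.one_mulVec]

/-- The core of `O^p(X)` is not central. -/
theorem core_ne_center : ¬ ⁅Cfsg.pCore p X, opX p X⁆ ≤ center X := by
  intro hle
  haveI := h.char
  have h0 : ⁅Cfsg.pCore p X, opX p X⁆ = ⊥ := by
    rw [eq_bot_iff, ← commutator_core_idem h]
    exact (commutator_mono hle le_rfl).trans (commutator_le.2 fun a ha b _ => by
      rw [Subgroup.mem_bot, commutatorElement_eq_one_iff_mul_comm, mem_center_iff.1 ha b])
  have hcent : opX p X ≤ Cfsg.pCore p X :=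
    (commutator_eq_bot_iff_le_centralizer.1 (by rw [commutator_comm]; exact h0)).trans h.cent
  have hbot : opX p X = ⊥ := by
    rw [← opX_res (p := p) (X := X), eq_bot_iff]
    exact (closure_le _).2 fun x hx =>
      H75.eq_one_of_mem_of_coprime (H1.isPGroup_pCore p X) (hcent hx.1) hx.2
  obtain ⟨S', r, -, -, -, hmap⟩ := exists_hom h
  rw [hbot, Subgroup.map_bot] at hmap
  have hg : (⁅(H37.upper2 1 : SL(2, F)), (H37.lower2 1 : SL(2, F))⁆ : SL(2, F)) = 1 :=
    Subgroup.mem_bot.1 (hmap ▸ H78.Block.commutator_elem_mem _ _)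
  have h10 := congrArg (fun g : SL(2, F) => (g : Matrix (Fin 2) (Fin 2) F) 1 0) hg
  simp [commutatorElement_def, Matrix.mul_apply, Fin.sum_univ_two,
    Matrix.SpecialLinearGroup.coe_inv, Matrix.adjugate_fin_two] at h10

/-- What `O^p(X)` centralises in `V` is central. -/
theorem inter_cent :
    normalClosure (Zc p (S : Subgroup X) : Set X) ⊓ centralizer (opX p X : Set X) ≤ center X := by
  obtain ⟨hVQ, -⟩ := module_facts h
  obtain ⟨hch, -⟩ := h.chief_V
  haveI := normalClosure_normal (s := (Zc p (S : Subgroup X) : Set X))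
  haveI := opX_normal (p := p) (X := X)
  set V := normalClosure (Zc p (S : Subgroup X) : Set X) with hV
  rcases hch.2.2.2 ((V ⊓ centralizer (opX p X : Set X)) ⊔ (V ⊓ center X)) inferInstance
    le_sup_right (sup_le inf_le_left inf_le_left) with e | e
  · exact le_sup_left.trans (e.le.trans inf_le_right)
  exfalso
  have hVE : V ≤ centralizer (opX p X : Set X) :=
    e.ge.trans (sup_le inf_le_right (inf_le_right.trans (center_le_centralizer _)))
  have hEV : opX p X ≤ centralizer (V : Set X) := Subgroup.le_centralizer_iff.1 hVE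
  have hcent : opX p X ≤ Cfsg.pCore p X := hEV.trans (cent_V_le h)
  refine core_ne_center h ?_
  have hbot : opX p X = ⊥ := by
    rw [← opX_res (p := p) (X := X), eq_bot_iff]
    exact (closure_le _).2 fun x hx =>
      H75.eq_one_of_mem_of_coprime (H1.isPGroup_pCore p X) (hcent hx.1) hx.2
  rw [hbot, commutator_bot_right]
  exact bot_le

theorem body_one {T : Subgroup X} (hT : One p ⊤ (S : Subgroup X) (Cfsg.pCore p X)
    (normalClosure (Zc p (S : Subgroup X) : Set X)) T) (n : ℕ) :
    LinBody p F n (opX p X) (S : Subgroup X) := by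
  haveI := opX_normal (p := p) (X := X)
  haveI := H1.pCore_normal' p X
  haveI := normalClosure_normal (s := (Zc p (S : Subgroup X) : Set X))
  obtain ⟨hVQ, hVC, hVp, -⟩ := module_facts h
  obtain ⟨hch, hnc⟩ := h.chief_V
  set V := normalClosure (Zc p (S : Subgroup X) : Set X) with hV
  have hP0 : ⁅Cfsg.pCore p X, opX p X⁆ ≤ V :=
    res_comm_le h hT.sup fun d hd t ht => hT.comm_mem d hd t ht
  have hcore : Cfsg.pCoreOf p (opX p X) = ⁅Cfsg.pCore p X, opX p X⁆ :=
    core_eq h hT.sup hT.comm fun d hd => by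
      obtain ⟨v, hv, c, hc, e, hct⟩ := hT.split d hd
      exact ⟨v, mem_sup_right hv, c, hc, e, hct⟩
  have hom : Cfsg.omegaOneCenter p (Cfsg.pCoreOf p (opX p X)) = Cfsg.pCoreOf p (opX p X) := by
    rw [hcore]
    exact omega_eq_self (fun a ha b hb => hVC (hP0 hb) a (hVQ (hP0 ha))) fun a ha => hVp a (hP0 ha)
  refine ⟨?_, commutator_sylow h, by rw [hcore]; exact commutator_core_idem h, exists_iso h, ?_,
    Or.inl hom.symm⟩
  · rw [Cfsg.pResidualOf, H75.map_pResidual_eq_resOf]; exact opX_res
  rw [hom, hcore]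
  have hacts := exists_acts h hch hVQ hnc hP0 inferInstance fun hle =>
    core_ne_center h (hle.trans inf_le_right)
  have heq : ⁅Cfsg.pCore p X, opX p X⁆ ⊓ (V ⊓ center X) =
      ⁅Cfsg.pCore p X, opX p X⁆ ⊓ centralizer (opX p X : Set X) :=
    le_antisymm (inf_le_inf_left _ (inf_le_right.trans (center_le_centralizer _)))
      fun x hx => ⟨hx.1, hP0 hx.1, inter_cent h ⟨hP0 hx.1, hx.2⟩⟩
  rwa [heq] at hacts

end H80.PU
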