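import Cfsg.Agent.H80.PU.TwoSplit

/-!
The second outcome: the fixed part of the core commutes with `O^p(X)`.
-/

set_option autoImplicit false
set_option linter.unusedSectionVars false
set_option linter.style.haveILetI false

open Subgroup
open scoped commutatorElement MatrixGroups

namespace H80.PU

open H71.BGNP

variable {X : Type*} [Group X] [Finite X] {p : ℕ} [Fact p.Prime] {F : Type} [Field F] [Fintype F]
  {ψ : X →* Matrix.ProjectiveSpecialLinearGroup (Fin 2) F} {S : Sylow p X}
  {T U V1 Q1 K1 W A : Subgroup X} {z : X}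

/-- A natural chief factor has no nonzero element fixed by an element mapping to `-1`. -/
theorem chief_neg (h : Sit p ψ S) (hp : p ≠ 2) {U M : Subgroup X} [M.Normal]
    (hc : Cfsg.IsChiefFactor U M) (hUQ : U ≤ Cfsg.pCore p X)
    (hnc : ¬ ⁅U, (⊤ : Subgroup X)⁆ ≤ M) {z : X} (hz : ∀ S' r, (∀ y, y ∈ (S' : Sylow p X).1.map ψ ↔
      ∃ a, y = lowP a) → IsNatHom ψ S S' r → r z = -1) {u : X} (hu : u ∈ U)
    (hfix : z * u = u * z) : u ∈ M := by
  haveI := h.char
  obtain ⟨S', hS'⟩ := h.exists_lower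
  obtain ⟨r, hr⟩ := h.exists_natHom hS'
  set π := QuotientGroup.mk' M with hπ
  obtain ⟨θ, hθ⟩ : ∃ θ : (Fin 2 → F) ≃+ Additive (U.map π), ∀ g v,
      π g * ((Additive.toMul (θ v) : U.map π) : X ⧸ M) * (π g)⁻¹ =
        ((Additive.toMul (θ (((r g : SL(2, F)) : Matrix (Fin 2) (Fin 2) F).mulVec v)) :
          U.map π) : X ⧸ M) := h.natural_data hS' hr hc hUQ hnc
  set v := θ.symm (Additive.ofMul ⟨π u, mem_map_of_mem π hu⟩) with hv
  have h1 := hθ z v
  rw [hz S' r hS' hr] at h1
  have hθv : ((Additive.toMul (θ v) : U.map π) : X ⧸ M) = π u := by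
    rw [hv, AddEquiv.apply_symm_apply]; rfl
  rw [hθv, ← map_inv, ← map_mul, ← map_mul, hfix, mul_inv_cancel_right, ← hθv] at h1
  have h2 : v = -v := by
    have := θ.injective (Additive.toMul.injective (Subtype.ext h1))
    simpa [Matrix.neg_mulVec] using this
  have h3 : v = 0 := by
    funext i
    have h4 : (2 : F) * v i = 0 := by
      have := congrFun h2 i
      rw [Pi.neg_apply] at this
      linear_combination this
    rcases mul_eq_zero.1 h4 with h5 | h5
    · exfalso
      have : ((2 : ℕ) : F) = 0 := by simpa using h5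
      rw [CharP.cast_eq_zero_iff F p] at this
      exact hp (Nat.prime_dvd_prime_iff_eq Fact.out Nat.prime_two |>.1 this)
    · simpa using h5
  rw [h3, map_zero] at hθv
  exact (QuotientGroup.eq_one_iff u).1 hθv.symm

namespace TwoCtx

variable (c : TwoCtx ψ S T U V1 Q1 K1 W A z)
  (hneg : ∀ S' r, (∀ y, y ∈ (S' : Sylow p X).1.map ψ ↔ ∃ a, y = lowP a) →
    IsNatHom ψ S S' r → r z = -1)
include c hneg

/-- `p'`-elements commuting with `z` centralise the fixed part of the core. -/
theorem res_cent_fix {y : X} (hy : z * y = y * z) (hco : (orderOf y).Coprime p) :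
    ∀ r ∈ fixR p X z, Commute y r := by
  suffices key : ∀ (k : ℕ) (N : Subgroup X), N.Normal → N ≤ Cfsg.pCore p X → Nat.card N ≤ k →
      ∀ r ∈ N, z * r = r * z → Commute y r by
    intro r hr
    obtain ⟨h1, h2⟩ := mem_fixR.1 hr
    exact key _ _ (H1.pCore_normal' p X) le_rfl le_rfl r h1 h2
  intro k
  induction k with
  | zero => intro N _ _ hcard; exact absurd hcard (not_le.2 Nat.card_pos)
  | succ k ih =>
    intro N hN hND hcard r hr hrz
    by_cases hbot : N = ⊥
    · rw [hbot, Subgroup.mem_bot] at hr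
      rw [hr]; exact Commute.one_right y
    obtain ⟨M, ⟨hMn, hMN⟩, hMmax⟩ := Set.Finite.exists_maximalFor (fun M : Subgroup X => M)
      {M : Subgroup X | M.Normal ∧ M < N} (Set.toFinite _)
      ⟨⊥, inferInstance, bot_lt_iff_ne_bot.2 hbot⟩
    haveI := hMn
    have hc : Cfsg.IsChiefFactor N M := ⟨hMN, hN, hMn, fun L hL hML hLN => by
      rcases hLN.eq_or_lt with e | hlt
      · exact Or.inr e
      · exact Or.inl (le_antisymm (hMmax ⟨hL, hlt⟩ hML) hML)⟩
    have hMcard : Nat.card M ≤ k := by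
      have := H75.card_lt_of_lt hMN
      omega
    have hMD := hMN.le.trans hND
    by_cases hnc : ⁅N, (⊤ : Subgroup X)⁆ ≤ M
    · have h1 : ⁅y, r⁆ ∈ M := by
        rw [← commutatorElement_inv]
        exact inv_mem (hnc (commutator_mem_commutator hr (mem_top y)))
      refine H75.commute_of_coprime_step (H1.isPGroup_pCore p X) hco (hMD h1) ?_
      refine ih M hMn hMD hMcard _ h1 ?_
      have h2 : Commute z y := hy
      have h3 : Commute z r := hrz
      exact ((h2.mul_right h3).mul_right h2.inv_right).mul_right h3.inv_right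
    · exact ih M hMn hMD hMcard r (chief_neg c.sit c.p_ne hc hND hnc hneg hr hrz) hrz

theorem res_cent_fix' {y r : X} (hy : y ∈ H75.resOf p (centralizer ({z} : Set X)))
    (hr : r ∈ fixR p X z) : y * r = r * y := by
  have hle : H75.resOf p (centralizer ({z} : Set X)) ≤ centralizer ({r} : Set X) := by
    refine (closure_le _).2 fun x hx => mem_centralizer_singleton_iff.2 ?_
    exact c.res_cent_fix hneg (mem_centralizer_singleton_iff.1 hx.1).symm hx.2 r hr
  exact mem_centralizer_singleton_iff.1 (hle hy)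

omit hneg in
/-- `X = O_p(X) C_X(z)`. -/
theorem exists_fix_mul (x : X) : ∃ m ∈ Cfsg.pCore p X, z * (m * x) = m * x * z := by
  set d := z * (x * z * x⁻¹) with hd
  have hdD : d ∈ Cfsg.pCore p X := by
    have := c.z_central x
    have h1 : ⁅z, x⁆ = d := by
      rw [commutatorElement_def, c.z_inv, hd]; group
    rwa [h1] at this
  obtain ⟨k, hk⟩ := H1.isPGroup_pCore p X ⟨d, hdD⟩
  have hk' : d ^ p ^ k = 1 := by simpa using congrArg Subtype.val hk
  obtain ⟨j, hj⟩ := ((Fact.out : p.Prime).odd_of_ne_two c.p_ne).pow (n := k)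
  set m := d ^ (j + 1) with hm
  have hmm : m * m = d := by
    rw [hm, ← pow_add, show j + 1 + (j + 1) = p ^ k + 1 by omega, pow_succ, hk', one_mul]
  have hdz : z * d * z = d⁻¹ := by
    refine eq_inv_iff_mul_eq_one.2 ?_
    rw [hd]
    calc z * (z * (x * z * x⁻¹)) * z * (z * (x * z * x⁻¹))
        = z * z * (x * z * x⁻¹) * (z * z) * (x * z * x⁻¹) := by group
      _ = x * z * (x⁻¹ * x) * z * x⁻¹ := by rw [c.z_sq]; group
      _ = x * (z * z) * x⁻¹ := by rw [inv_mul_cancel, mul_one, mul_assoc x z z]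
      _ = 1 := by rw [c.z_sq, mul_one, mul_inv_cancel]
  have hmz : z * m * z = m⁻¹ := by
    have h1 := conj_pow (i := j + 1) (a := z) (b := d)
    rw [c.z_inv] at h1
    rw [hm, ← h1, hdz, inv_pow]
  refine ⟨m, pow_mem hdD _, ?_⟩
  calc z * (m * x) = z * m * z * (z * (x * z * x⁻¹)) * (x * z) := by
        have e1 : z * m * z * (z * (x * z * x⁻¹)) * (x * z) =
          z * m * (z * z) * (x * z * (x⁻¹ * x) * z) := by group
        rw [e1, c.z_sq, inv_mul_cancel, mul_one, mul_one, mul_assoc x, c.z_sq, mul_one, mul_assoc]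
    _ = m⁻¹ * (m * m) * (x * z) := by rw [hmz, hmm]
    _ = _ := by group

omit hneg in
theorem P0_le_closure :
    P0 p X ≤ closure {m | m ∈ P0 p X ∧ z * m * z = m⁻¹} ⊔ fixR p X z := by
  intro d hd
  obtain ⟨m, r, rfl, hm, hmz, hr⟩ := c.decomp ((commutator_le_left _ _) hd)
  exact mul_mem (mem_sup_left (subset_closure ⟨hm, hmz⟩)) (mem_sup_right hr)

/-- The fixed part commutes with `[O_p(X), O^p(X)]` and with `O^p(X)`. -/
theorem fix_comm : (∀ r ∈ fixR p X z, ∀ m ∈ P0 p X, m * r = r * m) ∧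
    ∀ r ∈ fixR p X z, ∀ e ∈ opX p X, e * r = r * e := by
  haveI hDn := H1.pCore_normal' p X
  haveI hP0n := c.P0_normal
  set R := fixR p X z with hR
  set Lg := closure {m | m ∈ P0 p X ∧ z * m * z = m⁻¹} with hL
  set Y := H75.resOf p (centralizer ({z} : Set X)) with hY
  have hLR : ∀ r ∈ R, ∀ l ∈ Lg, l * r = r * l := fun r hr l hl => by
    have : Lg ≤ centralizer ({r} : Set X) := (closure_le _).2 fun m hm =>
      mem_centralizer_singleton_iff.2 (c.comm_inverted hm.1 hm.2 hr)
    exact mem_centralizer_singleton_iff.1 (this hl)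
  have hDLR : Cfsg.pCore p X ≤ Lg ⊔ R := fun d hd => by
    obtain ⟨m, r, rfl, hm, hmz, hr⟩ := c.decomp hd
    exact mul_mem (mem_sup_left (subset_closure ⟨hm, hmz⟩)) (mem_sup_right hr)
  have hRL : R ≤ normalizer (Lg : Set X) := fun r hr => by
    refine H75.le_normalizer_of_conj (K := zpowers r) ?_ (mem_zpowers r)
    intro k hk l hl
    obtain ⟨i, rfl⟩ := mem_zpowers_iff.1 hk
    rw [← hLR _ (zpow_mem hr i) l hl, mul_inv_cancel_right]
    exact hl
  have hCzL : ∀ g : X, z * g = g * z → g ∈ normalizer (Lg : Set X) := by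
    intro g hg
    refine H75.le_normalizer_of_conj (K := zpowers g) ?_ (mem_zpowers g)
    intro k hk l hl
    have hk' : z * k = k * z := by
      obtain ⟨i, rfl⟩ := mem_zpowers_iff.1 hk
      exact (Commute.zpow_right hg i).eq
    have : Lg ≤ Lg.comap (MulAut.conj k).toMonoidHom := by
      refine (closure_le _).2 fun m hm => subset_closure ⟨hP0n.conj_mem _ hm.1 k, ?_⟩
      show z * (k * m * k⁻¹) * z = (k * m * k⁻¹)⁻¹
      have h1 : z * (k * m * k⁻¹) * z = k * (z * m * z) * k⁻¹ := by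
        calc z * (k * m * k⁻¹) * z = z * k * m * (k⁻¹ * z) := by group
          _ = k * z * m * (z * k⁻¹) := by
            rw [hk', (show k⁻¹ * z = z * k⁻¹ from
              (Commute.inv_left (show Commute k z from hk'.symm)).eq)]
          _ = _ := by group
      rw [h1, hm.2]; group
    exact this hl
  have htop : ∀ x : X, ∃ d ∈ Cfsg.pCore p X, ∃ g, z * g = g * z ∧ x = d * g := fun x => by
    obtain ⟨m, hm, hmx⟩ := c.exists_fix_mul x
    exact ⟨m⁻¹, inv_mem hm, m * x, hmx, by group⟩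
  haveI hLn : Lg.Normal := normalizer_eq_top_iff.1 (top_le_iff.1 fun x _ => by
    obtain ⟨d, hd, g, hg, rfl⟩ := htop x
    exact mul_mem ((hDLR.trans (sup_le le_normalizer hRL)) hd) (hCzL g hg))
  have hRY : R ≤ normalizer (Y : Set X) := fun r hr => by
    refine H75.le_normalizer_of_conj (K := zpowers r) ?_ (mem_zpowers r)
    intro k hk y hy
    obtain ⟨i, rfl⟩ := mem_zpowers_iff.1 hk
    rw [← c.res_cent_fix' hneg hy (zpow_mem hr i), mul_inv_cancel_right]
    exact hy
  set M := Lg ⊔ Y with hM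
  haveI hMn : M.Normal := normalizer_eq_top_iff.1 (top_le_iff.1 fun x _ => by
    obtain ⟨d, hd, g, hg, rfl⟩ := htop x
    refine mul_mem ((hDLR.trans (sup_le (le_sup_left.trans le_normalizer) ?_)) hd) ?_
    · exact fun r hr => H75.normalizer_inf_le_normalizer_sup _ _ ⟨hRL hr, hRY hr⟩
    · exact H75.normalizer_inf_le_normalizer_sup _ _ ⟨hCzL g hg,
        H75.normalizer_le_normalizer_resOf _ (le_normalizer (mem_centralizer_singleton_iff.2 hg.symm))⟩)
  have hEM : opX p X ≤ M := by
    rw [opX, H75.resOf_top]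
    refine H75.pResidual_le ?_
    intro q
    obtain ⟨x, rfl⟩ := QuotientGroup.mk'_surjective M q
    obtain ⟨d, hd, g, hg, rfl⟩ := htop x
    obtain ⟨i, hi⟩ := H75.exists_pow_coprime (p := p) g
    have hgM : g ^ p ^ i ∈ M := mem_sup_right (subset_closure
      ⟨pow_mem (mem_centralizer_singleton_iff.2 hg.symm) _, hi⟩)
    set π := QuotientGroup.mk' M
    haveI : ((Cfsg.pCore p X).map π).Normal :=
      hDn.map π (QuotientGroup.mk'_surjective M)
    have h1 : (π (d * g)) ^ p ^ i ∈ (Cfsg.pCore p X).map π := by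
      refine (QuotientGroup.eq_one_iff _).1 ?_
      rw [QuotientGroup.mk_pow]
      have h2 : ((π (d * g) : X ⧸ M) : (X ⧸ M) ⧸ (Cfsg.pCore p X).map π) = (π g : _) := by
        rw [map_mul, QuotientGroup.mk_mul,
          (QuotientGroup.eq_one_iff (π d)).2 (mem_map_of_mem π hd), one_mul]
      rw [h2, ← QuotientGroup.mk_pow, ← map_pow,
        show π (g ^ p ^ i) = 1 from (QuotientGroup.eq_one_iff _).2 hgM, QuotientGroup.mk_one]
    obtain ⟨l, hl⟩ := (H1.isPGroup_pCore p X).map π ⟨_, h1⟩
    refine ⟨i + l, ?_⟩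
    rw [pow_add, pow_mul]
    simpa using congrArg Subtype.val hl
  have hRE : ∀ r ∈ R, ∀ e ∈ opX p X, e * r = r * e := fun r hr e he => by
    have : M ≤ centralizer ({r} : Set X) := sup_le
      (fun l hl => mem_centralizer_singleton_iff.2 (hLR r hr l hl))
      (fun y hy => mem_centralizer_singleton_iff.2 (c.res_cent_fix' hneg hy hr))
    exact mem_centralizer_singleton_iff.1 (this (hEM he))
  refine ⟨fun r hr m hm => ?_, hRE⟩
  have hP0L : P0 p X ≤ Lg := by
    haveI := fixMod_normal (Cfsg.pCore p X) Lg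
    refine commutator_le.2 fun d hd e he => ?_
    obtain ⟨l, hl, r', hr', rfl⟩ := H1.exists_mul_of_mem_sup hRL (hDLR hd)
    have h1 : ⁅l * r', e⁆ = l * (e * l⁻¹ * e⁻¹) := by
      rw [commutatorElement_def, mul_inv_rev, mul_assoc l r' e, ← hRE r' hr' e he]
      group
    rw [h1]
    exact mul_mem hl (hLn.conj_mem _ (inv_mem hl) e)
  exact hLR r hr m (hP0L hm)

end TwoCtx

end H80.PU
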