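import Cfsg.Agent.H80.PU.TwoNatural

/-!
The second outcome: commutators of the natural module `N / V` form at most one line.
-/

set_option autoImplicit false
set_option linter.unusedSectionVars false
set_option linter.style.haveILetI false

open Subgroup
open scoped commutatorElement MatrixGroups

namespace H80.PU

open H71.BGNP

variable {X : Type*} [Group X] [Finite X] {p : ℕ} [Fact p.Prime] {F : Type} [Field F] [Fintype F]
  {ψ : X →* Matrix.ProjectiveSpecialLinearGroup (Fin 2) F} {S : Sylow p X}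
  {T U V1 Q1 K1 W A : Subgroup X} {z : X}

namespace TwoFull

variable (c : TwoFull ψ S T U V1 Q1 K1 W A z)
include c

theorem comm_central {a b : X} (ha : a ∈ Nn ψ S) (hb : b ∈ Nn ψ S) :
    ⁅a, b⁆ ∈ normalClosure (Zc p (S : Subgroup X) : Set X) ⊓ center X :=
  c.ctx.DU_mem (c.Nn_D ha) (c.Nn_U hb)

/-- All commutators in `N` lie in a group with at most `q` elements. -/
theorem exists_line : ∃ Z₁ : Subgroup X, Nat.card Z₁ ≤ Fintype.card F ∧
    ∀ a ∈ Nn ψ S, ∀ b ∈ Nn ψ S, ⁅a, b⁆ ∈ Z₁ := by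
  classical
  haveI hVn := normalClosure_normal (s := (Zc p (S : Subgroup X) : Set X))
  obtain ⟨hch, hnc, hcard, hcardN, -⟩ := c.natural
  obtain ⟨S', r, hS', hr, -, -⟩ := exists_hom c.ctx.sit
  set V := normalClosure (Zc p (S : Subgroup X) : Set X) with hV
  set N := Nn ψ S with hN
  haveI hNn : N.Normal := c.Nn_normal
  set π := QuotientGroup.mk' V with hπ
  obtain ⟨θ, hθ⟩ : ∃ θ : (Fin 2 → F) ≃+ Additive (N.map π), ∀ g v,
      π g * ((Additive.toMul (θ v) : N.map π) : X ⧸ V) * (π g)⁻¹ =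
        ((Additive.toMul (θ (((r g : SL(2, F)) : Matrix (Fin 2) (Fin 2) F).mulVec v)) :
          N.map π) : X ⧸ V) := c.ctx.sit.natural_data hS' hr hch c.Nn_D hnc
  choose L hLN hLπ using fun v : Fin 2 → F => (Additive.toMul (θ v)).2
  have hLπ' : ∀ v, π (L v) = ((Additive.toMul (θ v) : N.map π) : X ⧸ V) := hLπ
  have hcen : ∀ {a b}, a ∈ N → b ∈ N → ∀ x : X, x * ⁅a, b⁆ * x⁻¹ = ⁅a, b⁆ := fun {a b} ha hb x => by
    rw [mem_center_iff.1 (c.comm_central ha hb).2 x, mul_inv_cancel_right]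
  -- commutators depend only on the images in `N / V`
  have hmod : ∀ {a a' b}, a ∈ N → a' ∈ N → b ∈ N → π a = π a' → ⁅a, b⁆ = ⁅a', b⁆ := by
    intro a a' b ha ha' hb he
    have hv : a'⁻¹ * a ∈ V := by
      rw [← QuotientGroup.eq_one_iff]
      show π (a'⁻¹ * a) = 1
      rw [map_mul, map_inv, he, inv_mul_cancel]
    have h1 : ⁅a'⁻¹ * a, b⁆ = 1 :=
      comm_eq_one_of (c.V_comm hv (c.Nn_D hb)).symm
    calc ⁅a, b⁆ = ⁅a' * (a'⁻¹ * a), b⁆ := by rw [mul_inv_cancel_left]
      _ = _ := by rw [comm_mul_left, h1, mul_one, mul_inv_cancel, one_mul]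
  have hmod' : ∀ {a a' b b'}, a ∈ N → a' ∈ N → b ∈ N → b' ∈ N → π a = π a' → π b = π b' →
      ⁅a, b⁆ = ⁅a', b'⁆ := by
    intro a a' b b' ha ha' hb hb' hea heb
    rw [hmod ha ha' hb hea, ← commutatorElement_inv b a', hmod hb hb' ha' heb,
      commutatorElement_inv]
  let C : (Fin 2 → F) → (Fin 2 → F) → X := fun x y => ⁅L x, L y⁆
  have hadd : ∀ x y, π (L (x + y)) = π (L x * L y) := fun x y => by
    rw [map_mul, hLπ', hLπ', hLπ', map_add, toMul_add]; rfl
  have haddl : ∀ x x' y, C (x + x') y = C x' y * C x y := by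
    intro x x' y
    show ⁅L (x + x'), L y⁆ = ⁅L x', L y⁆ * ⁅L x, L y⁆
    rw [hmod (hLN _) (mul_mem (hLN x) (hLN x')) (hLN y) (hadd x x'), comm_mul_left,
      hcen (hLN x') (hLN y)]
  have haddr : ∀ x y y', C x (y + y') = C x y * C x y' := by
    intro x y y'
    show ⁅L x, L (y + y')⁆ = ⁅L x, L y⁆ * ⁅L x, L y'⁆
    rw [hmod' (hLN x) (hLN x) (hLN _) (mul_mem (hLN y) (hLN y')) rfl (hadd y y'), comm_mul_right,
      hcen (hLN x) (hLN y')]
  have hinv : ∀ (g : SL(2, F)) x y,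
      C ((g : Matrix (Fin 2) (Fin 2) F).mulVec x) ((g : Matrix (Fin 2) (Fin 2) F).mulVec y) =
        C x y := by
    intro g x y
    obtain ⟨k, rfl⟩ := hr.2.2 g
    have e : ∀ v, π (L (((r k : SL(2, F)) : Matrix (Fin 2) (Fin 2) F).mulVec v)) =
        π (k * L v * k⁻¹) := fun v => by
      rw [hLπ', ← hθ, map_mul, map_mul, map_inv, hLπ']
    show ⁅L _, L _⁆ = ⁅L x, L y⁆
    rw [hmod' (hLN _) (hNn.conj_mem _ (hLN x) k) (hLN _) (hNn.conj_mem _ (hLN y) k) (e x) (e y),
      comm_conj, hcen (hLN x) (hLN y)]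
  -- coordinates of elements of `N`
  let co : ∀ a ∈ N, Fin 2 → F := fun a ha =>
    θ.symm (Additive.ofMul ⟨π a, mem_map_of_mem π ha⟩)
  have hco : ∀ a (ha : a ∈ N), π (L (co a ha)) = π a := fun a ha => by
    rw [hLπ']
    show ((Additive.toMul (θ (θ.symm _)) : N.map π) : X ⧸ V) = π a
    rw [AddEquiv.apply_symm_apply]
    rfl
  -- the line fixed by `S` is `(N ∩ Q₁) / V`
  obtain ⟨s, hs, hst⟩ := (c.ctx.sit.upper (H39.transl (1 : F))).2 ⟨1, rfl⟩
  have hrs := hr.1 s hs 1 hst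
  have hzero : ∀ a (ha : a ∈ N), a ∈ Q1 → co a ha 1 = 0 := by
    intro a ha haQ
    haveI := H1.pCore_normal' p X
    have hsa : ⁅s, a⁆ ∈ V := by
      obtain ⟨t, ht, d, hd, rfl⟩ := exists_mul_of_mem_sup
        (le_top.trans (normalizer_eq_top (Cfsg.pCore p X)).ge) (c.ctx.two.sup hs)
      rw [comm_mul_left]
      refine mul_mem (hVn.conj_mem _ (c.ctx.DU_mem hd (c.Nn_U ha)).1 t) ?_
      rw [← commutatorElement_inv]
      exact inv_mem (le_normalClosure (c.ctx.two.K1_le (c.ctx.two.Q1_T a haQ t ht)))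
    have h1 := hθ s (co a ha)
    rw [← hLπ' (co a ha), hco a ha, hrs, ← map_inv, ← map_mul, ← map_mul] at h1
    have h2 : π (s * a * s⁻¹) = π a := by
      rw [← mul_inv_eq_one, ← map_inv, ← map_mul, ← commutatorElement_def]
      exact (QuotientGroup.eq_one_iff _).2 hsa
    have h3 : θ (((H37.upper2 (1 : F) : SL(2, F)) : Matrix (Fin 2) (Fin 2) F).mulVec (co a ha)) =
        θ (co a ha) := by
      refine Additive.toMul.injective (Subtype.ext ?_)
      rw [← h1, h2, ← hLπ', hco a ha]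
    have h4 := congrFun (θ.injective h3) 0
    simp [H37.coe_upper2, Matrix.mulVec, dotProduct, Fin.sum_univ_two] at h4
    exact h4
  let M : Subgroup X := N ⊓ Q1
  let toF : ↥(M.map π) → F := fun w => θ.symm (Additive.ofMul ⟨(w : X ⧸ V),
    map_mono (inf_le_left : M ≤ N) w.2⟩) 0
  have hline : ∀ w : F, ∃ a, ∃ ha : a ∈ N, a ∈ Q1 ∧ co a ha = ![w, 0] := by
    have hinj : Function.Injective toF := by
      rintro ⟨_, a, ha, rfl⟩ ⟨_, b, hb, rfl⟩ e
      have e0 : co a ha.1 0 = co b hb.1 0 := e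
      have e1 : co a ha.1 = co b hb.1 := by
        ext i; fin_cases i
        · exact e0
        · exact (hzero a ha.1 ha.2).trans (hzero b hb.1 hb.2).symm
      refine Subtype.ext ?_
      show π a = π b
      rw [← hco a ha.1, e1, hco b hb.1]
    have hMc : Nat.card (M.map π) = Fintype.card F := by
      have h2 := card_mul_index (π.domRestrict M).ker
      rw [index_ker, MonoidHom.domRestrict_range] at h2
      have h3 : Nat.card (π.domRestrict M).ker = Nat.card V := by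
        refine Nat.card_congr (Equiv.trans ?_ (subgroupOfEquivOfLe
          (le_inf le_sup_right c.ctx.two.Q1_V : V ≤ M)).toEquiv)
        exact Equiv.setCongr (Set.ext fun x => QuotientGroup.eq_one_iff _)
      rw [h3, hcard, mul_comm] at h2
      exact Nat.eq_of_mul_eq_mul_right Nat.card_pos h2
    intro w
    obtain ⟨⟨y, hy⟩, hyw⟩ := ((Nat.bijective_iff_injective_and_card toF).2
      ⟨hinj, by rw [hMc, Nat.card_eq_fintype_card]⟩).2 w
    obtain ⟨a, ha, rfl⟩ := hy
    refine ⟨a, ha.1, ha.2, funext fun i => ?_⟩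
    fin_cases i
    · exact hyw
    · simpa using hzero a ha.1 ha.2
  have h11 : ∀ u w : F, C ![u, 0] ![w, 0] = 1 := by
    intro u w
    obtain ⟨a, ha, haQ, hea⟩ := hline u
    obtain ⟨b, hb, hbQ, heb⟩ := hline w
    show ⁅L ![u, 0], L ![w, 0]⁆ = 1
    rw [hmod' (hLN _) ha (hLN _) hb (by rw [← hea, hco a ha]) (by rw [← heb, hco b hb])]
    exact comm_eq_one_of (c.inter_eq.2 a ⟨ha, haQ⟩ b ⟨hb, hbQ⟩)
  have h22 : ∀ u w : F, C ![0, u] ![0, w] = 1 := by
    intro u w
    have h := hinv ⟨!![0, 1; -1, 0], by rw [Matrix.det_fin_two_of]; ring⟩ ![-u, 0] ![-w, 0]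
    rw [h11] at h
    have e : ∀ t : F, (!![0, 1; -1, 0] : Matrix (Fin 2) (Fin 2) F).mulVec ![-t, 0] = ![0, t] :=
      fun t => by ext i; fin_cases i <;> simp [Matrix.mulVec, dotProduct, Fin.sum_univ_two]
    simp only [Matrix.SpecialLinearGroup.coe_mk, e] at h
    exact h
  let g₀ : F → X := fun b => C ![1, 0] ![0, b]
  have h12 : ∀ a b : F, C ![a, 0] ![0, b] = g₀ (a * b) := by
    intro a b
    rcases eq_or_ne a 0 with rfl | ha
    · show C ![0, 0] ![0, b] = C ![1, 0] ![0, 0 * b]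
      rw [zero_mul]
      have h0 := haddr ![1, 0] ![0, 0] ![0, 0]
      have h1 := haddl ![0, 0] ![0, 0] ![0, b]
      have e : (![0, 0] : Fin 2 → F) + ![0, 0] = ![0, 0] := by simp
      rw [e] at h0 h1
      rw [left_eq_mul.1 h1, left_eq_mul.1 h0]
    · have h := hinv ⟨!![a⁻¹, 0; 0, a], by rw [Matrix.det_fin_two_of]; field_simp; ring⟩
        ![a, 0] ![0, b]
      have e1 : (!![a⁻¹, 0; 0, a] : Matrix (Fin 2) (Fin 2) F).mulVec ![a, 0] = ![1, 0] := by
        ext i; fin_cases i <;>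
          simp [Matrix.mulVec, dotProduct, Fin.sum_univ_two, inv_mul_cancel₀ ha]
      have e2 : (!![a⁻¹, 0; 0, a] : Matrix (Fin 2) (Fin 2) F).mulVec ![0, b] = ![0, a * b] := by
        ext i; fin_cases i <;> simp [Matrix.mulVec, dotProduct, Fin.sum_univ_two]
      simp only [Matrix.SpecialLinearGroup.coe_mk, e1, e2] at h
      exact h.symm
  have hswap : ∀ x y, C x y = (C y x)⁻¹ := fun x y => (commutatorElement_inv _ _).symm
  let gh : Multiplicative F →* X := MonoidHom.mk' (fun b => g₀ b.toAdd) fun b b' => by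
    show C ![1, 0] ![0, (b * b').toAdd] = C ![1, 0] ![0, b.toAdd] * C ![1, 0] ![0, b'.toAdd]
    rw [← haddr, toAdd_mul]
    simp
  refine ⟨gh.range, ?_, fun a ha b hb => ?_⟩
  · calc Nat.card gh.range ≤ Nat.card (Multiplicative F) :=
          Nat.card_le_card_of_surjective _ gh.rangeRestrict_surjective
      _ = _ := by rw [Nat.card_congr Multiplicative.toAdd, Nat.card_eq_fintype_card]
  have hg : ∀ w, g₀ w ∈ gh.range := fun w => ⟨Multiplicative.ofAdd w, rfl⟩
  rw [hmod' ha (hLN _) hb (hLN _) (hco a ha).symm (hco b hb).symm]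
  set x := co a ha
  set y := co b hb
  have ex : ∀ v : Fin 2 → F, v = ![v 0, 0] + ![0, v 1] := fun v => by
    ext i; fin_cases i <;> simp
  show C x y ∈ gh.range
  rw [ex x, ex y, haddl, haddr, haddr, h11, h22, h12, hswap ![0, x 1] ![y 0, 0], h12]
  simp only [one_mul, mul_one]
  exact mul_mem (inv_mem (hg _)) (hg _)

end TwoFull

end H80.PU
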