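import Cfsg.Agent.H80.PU.TwoCent

/-!
The second outcome: `[O_p(X), O^p(X)]` is natural over `V`.
-/

set_option autoImplicit false
set_option linter.unusedSectionVars false
set_option linter.style.haveILetI false

open Subgroup
open scoped commutatorElement MatrixGroups

namespace H80.PU

open H71.BGNP

variable {X : Type*} [Group X] [Finite X] {p : ℕ} [Fact p.Prime] {F : Type} [Field F] [Fintype F]
  {ψ : X →* Matrix.ProjectiveSpecialLinearGroup (Fin 2) F} {S : Sylow p X}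
  {T U V1 Q1 K1 W A : Subgroup X} {z : X}

/-- The second outcome with all that goes with it. -/
structure TwoFull (ψ : X →* Matrix.ProjectiveSpecialLinearGroup (Fin 2) F) (S : Sylow p X)
    (T U V1 Q1 K1 W A : Subgroup X) (z : X) : Prop where
  ctx : TwoCtx ψ S T U V1 Q1 K1 W A z
  neg : ∀ S' r, (∀ y, y ∈ (S' : Sylow p X).1.map ψ ↔ ∃ a, y = lowP a) →
    IsNatHom ψ S S' r → r z = -1
  top : opX p X ⊔ A = ⊤

/-- `[O_p(X), O^p(X)] V`. -/
abbrev Nn (ψ : X →* Matrix.ProjectiveSpecialLinearGroup (Fin 2) F) (S : Sylow p X) : Subgroup X :=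
  P0 p X ⊔ normalClosure (Zc p (S : Subgroup X) : Set X)

namespace TwoFull

variable (c : TwoFull ψ S T U V1 Q1 K1 W A z)
include c

theorem p_ne : p ≠ 2 := c.ctx.p_ne

theorem V_D : normalClosure (Zc p (S : Subgroup X) : Set X) ≤ Cfsg.pCore p X :=
  (module_facts c.ctx.sit).1

theorem V_comm {v d : X} (hv : v ∈ normalClosure (Zc p (S : Subgroup X) : Set X))
    (hd : d ∈ Cfsg.pCore p X) : d * v = v * d :=
  (module_facts c.ctx.sit).2.1 hv d hd

theorem P0_D : P0 p X ≤ Cfsg.pCore p X :=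
  haveI := H1.pCore_normal' p X
  commutator_le_left _ _

theorem Nn_normal : (Nn ψ S).Normal :=
  haveI := c.ctx.P0_normal
  haveI := normalClosure_normal (s := (Zc p (S : Subgroup X) : Set X))
  inferInstance

theorem Nn_D : Nn ψ S ≤ Cfsg.pCore p X := sup_le c.P0_D c.V_D

theorem Nn_U : Nn ψ S ≤ U := sup_le c.ctx.P0_le_U c.ctx.two.U_ge

theorem Nn_mul {x : X} (hx : x ∈ Nn ψ S) :
    ∃ a ∈ P0 p X, ∃ v ∈ normalClosure (Zc p (S : Subgroup X) : Set X), x = a * v :=
  haveI := c.ctx.P0_normal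
  H1.exists_mul_of_mem_sup (le_top.trans (normalizer_eq_top (P0 p X)).ge) hx

theorem R_comm {r m : X} (hr : r ∈ fixR p X z) (hm : m ∈ P0 p X) : m * r = r * m :=
  (c.ctx.fix_comm c.neg).1 r hr m hm

theorem R_E {r e : X} (hr : r ∈ fixR p X z) (he : e ∈ opX p X) : e * r = r * e :=
  (c.ctx.fix_comm c.neg).2 r hr e he

/-- Modulo a normal subgroup containing the derived group of `[O_p(X), O^p(X)]`, the involution
inverts it. -/
theorem inverts_mod (M : Subgroup X) [M.Normal] (hM : ⁅P0 p X, P0 p X⁆ ≤ M) {x : X}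
    (hx : x ∈ P0 p X) : z * x * z * x ∈ M := by
  haveI := H1.pCore_normal' p X
  haveI hP0n := c.ctx.P0_normal
  set π := QuotientGroup.mk' M with hπ
  have hker : ∀ {y : X}, π y = 1 ↔ y ∈ M := fun {y} => QuotientGroup.eq_one_iff y
  have hab : ∀ a ∈ P0 p X, ∀ b ∈ P0 p X, π a * π b = π b * π a := fun a ha b hb => by
    rw [← commutatorElement_eq_one_iff_mul_comm, ← map_commutatorElement, hker]
    exact hM (commutator_mem_commutator ha hb)
  let I : Subgroup X :=
    { carrier := {y | y ∈ P0 p X ∧ π (z * y * z) = (π y)⁻¹}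
      one_mem' := ⟨one_mem _, by rw [mul_one, c.ctx.z_sq, map_one, inv_one]⟩
      mul_mem' := fun {a b} ha hb => ⟨mul_mem ha.1 hb.1, by
        have e : z * (a * b) * z = z * a * (z * z) * b * z := by
          rw [c.ctx.z_sq]; group
        rw [e, show z * a * (z * z) * b * z = (z * a * z) * (z * b * z) by group, map_mul,
          ha.2, hb.2, ← mul_inv_rev, hab b hb.1 a ha.1, map_mul]⟩
      inv_mem' := fun {a} ha => ⟨inv_mem ha.1, by
        have e : z * a⁻¹ * z = (z * a * z)⁻¹ := by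
          rw [mul_inv_rev, mul_inv_rev, c.ctx.z_inv, mul_assoc]
        rw [e, map_inv, ha.2, map_inv]⟩ }
  have hle : P0 p X ≤ I := by
    refine commutator_le.2 fun d hd e he => ?_
    obtain ⟨m, r, rfl, hm, hmz, hr⟩ := c.ctx.decomp hd
    have h1 : ⁅m * r, e⁆ = m * (e * m⁻¹ * e⁻¹) := by
      rw [commutatorElement_def, mul_inv_rev, mul_assoc m r e, ← c.R_E hr he]
      group
    rw [h1]
    have hmI : m ∈ I := ⟨hm, by rw [hmz, map_inv]⟩
    refine mul_mem hmI ⟨hP0n.conj_mem _ (inv_mem hm) e, ?_⟩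
    set w := e * m⁻¹ * e⁻¹ with hw
    have hwP : w ∈ P0 p X := hP0n.conj_mem _ (inv_mem hm) e
    set d' := z * e * z * e⁻¹ with hd'
    have hd'D : d' ∈ Cfsg.pCore p X := by
      have := c.ctx.z_central e
      rwa [commutatorElement_def, c.ctx.z_inv] at this
    have h2 : z * w * z = d' * w⁻¹ * d'⁻¹ := by
      have h3 : z * w * z = (z * e * z) * (z * m⁻¹ * z) * (z * e * z)⁻¹ := by
        have hz1 := c.ctx.z_sq
        rw [hw, mul_inv_rev, mul_inv_rev, c.ctx.z_inv,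
          show z * e * z * (z * m⁻¹ * z) * (z * (e⁻¹ * z)) =
            z * e * (z * z) * m⁻¹ * (z * z) * e⁻¹ * z by group, hz1]
        group
      rw [h3, c.ctx.inv_z hmz, hd', hw]
      group
    obtain ⟨m', r', e', hm', -, hr'⟩ := c.ctx.decomp hd'D
    have h4 : r' * w⁻¹ * r'⁻¹ = w⁻¹ := by
      rw [← c.R_comm hr' (inv_mem hwP), mul_inv_cancel_right]
    rw [h2, e', show m' * r' * w⁻¹ * (m' * r')⁻¹ = m' * (r' * w⁻¹ * r'⁻¹) * m'⁻¹ by group, h4,
      map_mul, map_mul, map_inv, map_inv, ← map_inv π w, hab m' hm' w⁻¹ (inv_mem hwP),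
      mul_inv_cancel_right, map_inv]
  have h5 := (hle hx).2
  rw [← hker, map_mul, h5, inv_mul_cancel]

theorem P0_comm_V : ⁅P0 p X, P0 p X⁆ ≤ normalClosure (Zc p (S : Subgroup X) : Set X) :=
  commutator_le.2 fun _ ha _ hb => (c.ctx.DU_mem (c.P0_D ha) (c.ctx.P0_le_U hb)).1

/-- The involution inverts `N / V`. -/
theorem inv_modV {x : X} (hx : x ∈ Nn ψ S) :
    z * x * z * x ∈ normalClosure (Zc p (S : Subgroup X) : Set X) := by
  haveI hVn := normalClosure_normal (s := (Zc p (S : Subgroup X) : Set X))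
  obtain ⟨a, ha, v, hv, rfl⟩ := c.Nn_mul hx
  have h1 := c.inverts_mod _ c.P0_comm_V ha
  have e : z * (a * v) * z * (a * v) = (z * a * z * a) * (a⁻¹ * (z * v * z) * a) * v := by
    rw [show z * a * z * a * (a⁻¹ * (z * v * z) * a) = z * a * (z * z) * v * z * a by group,
      c.ctx.z_sq]
    group
  rw [e]
  refine mul_mem (mul_mem h1 ?_) hv
  have := hVn.conj_mem _ (c.ctx.conj_mem hVn hv) a⁻¹
  rwa [inv_inv] at this

/-- The fixed part of `N` is central. -/
theorem fix_inter {x : X} (hx : x ∈ Nn ψ S) (hr : x ∈ fixR p X z) :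
    x ∈ normalClosure (Zc p (S : Subgroup X) : Set X) ⊓ center X := by
  obtain ⟨hxD, hxz⟩ := mem_fixR.1 hr
  haveI hVn := normalClosure_normal (s := (Zc p (S : Subgroup X) : Set X))
  have h1 := c.inv_modV hx
  rw [hxz, mul_assoc x z z, c.ctx.z_sq, mul_one] at h1
  have hxV := mem_of_sq c.p_ne (H1.isPGroup_pCore p X) hxD h1
  obtain ⟨hch, hnc⟩ := c.ctx.sit.chief_V
  exact chief_neg c.ctx.sit c.p_ne hch c.V_D hnc c.neg hxV hxz

/-- A normal subgroup of `X` in `N ∩ Q₁` lies in `V`. -/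
theorem le_V_of_le_Q1 {M : Subgroup X} [M.Normal] (hMN : M ≤ Nn ψ S) (hMQ : M ≤ Q1) :
    M ≤ normalClosure (Zc p (S : Subgroup X) : Set X) := by
  haveI hVn := normalClosure_normal (s := (Zc p (S : Subgroup X) : Set X))
  set V := normalClosure (Zc p (S : Subgroup X) : Set X) with hV
  have h1 : ⁅M, (⊤ : Subgroup X)⁆ ≤ V := top_comm_le c.ctx.sit c.ctx.two.sup
    (fun a ha t ht => le_normalClosure (c.ctx.two.K1_le (c.ctx.two.Q1_T a (hMQ ha) t ht)))
    fun a ha d hd => (c.ctx.UD_mem (c.Nn_U (hMN ha)) hd).1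
  intro x hx
  refine mem_of_sq c.p_ne (H1.isPGroup_pCore p X) (c.Nn_D (hMN hx)) ?_
  have h2 := c.inv_modV (hMN hx)
  have h3 := h1 (commutator_mem_commutator hx (mem_top z))
  rw [commutatorElement_def, c.ctx.z_inv] at h3
  have h4 := hVn.conj_mem _ (mul_mem h3 h2) 1
  have e : (x * z * x⁻¹ * z) * (z * x * z * x) = x * z * (x⁻¹ * (z * z) * x) * z * x := by group
  rw [c.ctx.z_sq, mul_one, inv_mul_cancel, mul_one, mul_assoc x z z, c.ctx.z_sq, mul_one] at e
  simpa [e] using h4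

theorem not_le_Q1 : ¬ P0 p X ≤ Q1 := by
  intro hle
  haveI := c.ctx.P0_normal
  have hP0V := c.le_V_of_le_Q1 le_sup_left hle
  refine c.ctx.two.W_not (c.top.ge.trans (sup_le ?_ c.ctx.two.W_norm))
  refine H75.le_normalizer_of_conj fun e he w hw => ?_
  obtain ⟨m, r, rfl, hm, -, hr⟩ := c.ctx.decomp (c.ctx.two.U_le (c.ctx.two.W_le hw))
  have hd : m⁻¹ * (e * m * e⁻¹) ∈ W := by
    refine c.ctx.two.W_ge (mul_mem (inv_mem (hP0V hm)) ?_)
    exact normalClosure_normal.conj_mem _ (hP0V hm) e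
  have hmW : m ∈ W := c.ctx.two.W_ge (hP0V hm)
  have e1 : e * (m * r) * e⁻¹ = m * (m⁻¹ * (e * m * e⁻¹)) * r := by
    rw [show e * (m * r) * e⁻¹ = e * m * e⁻¹ * (e * r * e⁻¹) by group, c.R_E hr he]
    group
  rw [e1]
  refine mul_mem (mul_mem hmW hd) ?_
  have := mul_mem (inv_mem hmW) hw
  rwa [inv_mul_cancel_left] at this

/-- `N ∩ Q₁` has index `q` in `N` and `q |V|` elements, `S = N Q₁`, and `N / V` is a natural module. -/
theorem natural : Cfsg.IsChiefFactor (Nn ψ S) (normalClosure (Zc p (S : Subgroup X) : Set X)) ∧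
    ¬ ⁅Nn ψ S, (⊤ : Subgroup X)⁆ ≤ normalClosure (Zc p (S : Subgroup X) : Set X) ∧
    Nat.card ↥(Nn ψ S ⊓ Q1) =
      Fintype.card F * Nat.card (normalClosure (Zc p (S : Subgroup X) : Set X)) ∧
    Nat.card (Nn ψ S) = Fintype.card F * Nat.card ↥(Nn ψ S ⊓ Q1) ∧
    (S : Subgroup X) ≤ Nn ψ S ⊔ Q1 := by
  haveI hVn := normalClosure_normal (s := (Zc p (S : Subgroup X) : Set X))
  haveI hNn := c.Nn_normal
  have hVQ1 : normalClosure (Zc p (S : Subgroup X) : Set X) ≤ Q1 := c.ctx.two.Q1_V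
  have hNV : normalClosure (Zc p (S : Subgroup X) : Set X) < Nn ψ S :=
    lt_of_le_not_ge le_sup_right fun hle => c.not_le_Q1 (le_sup_left.trans (hle.trans hVQ1))
  set V := normalClosure (Zc p (S : Subgroup X) : Set X) with hV
  set N := Nn ψ S with hN
  obtain ⟨B, ⟨hBn, hVB, hBN⟩, hBmax⟩ := Set.Finite.exists_maximalFor (fun M : Subgroup X => M)
    {M : Subgroup X | M.Normal ∧ V ≤ M ∧ M < N} (Set.toFinite _) ⟨V, hVn, le_rfl, hNV⟩
  haveI := hBn
  have hch : Cfsg.IsChiefFactor N B := ⟨hBN, hNn, hBn, fun L hL hBL hLN => by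
    rcases hLN.eq_or_lt with e | hlt
    · exact Or.inr e
    · exact Or.inl (le_antisymm (hBmax ⟨hL, hVB.trans hBL, hlt⟩ hBL) hBL)⟩
  have hnc : ¬ ⁅N, (⊤ : Subgroup X)⁆ ≤ B := by
    intro hle
    refine hBN.not_ge fun x hx => mem_of_sq c.p_ne (H1.isPGroup_pCore p X) (c.Nn_D hx) ?_
    have h2 := hVB (c.inv_modV hx)
    have h3 := hle (commutator_mem_commutator hx (mem_top z))
    rw [commutatorElement_def, c.ctx.z_inv] at h3
    have e : (x * z * x⁻¹ * z) * (z * x * z * x) = x * z * (x⁻¹ * (z * z) * x) * z * x := by group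
    rw [c.ctx.z_sq, mul_one, inv_mul_cancel, mul_one, mul_assoc x z z, c.ctx.z_sq, mul_one] at e
    rw [← e]
    exact mul_mem h3 h2
  -- elements of `Q₁` and of `B` are fixed by `S` modulo `B`
  set π := QuotientGroup.mk' B with hπ
  have hfix : ∀ s ∈ (S : Subgroup X), ∀ u ∈ (N ⊓ Q1) ⊔ B, ⁅s, u⁆ ∈ B := by
    have hle : (N ⊓ Q1) ⊔ B ≤ (centralizer ((S : Subgroup X).map π : Set (X ⧸ B))).comap π := by
      refine sup_le ?_ ?_
      · rintro u ⟨huN, huQ⟩ _ ⟨s, hs, rfl⟩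
        haveI := H1.pCore_normal' p X
        obtain ⟨t, ht, d, hd, rfl⟩ := exists_mul_of_mem_sup
          (le_top.trans (normalizer_eq_top (Cfsg.pCore p X)).ge) (c.ctx.two.sup hs)
        rw [eq_comm]
        apply commutatorElement_eq_one_iff_mul_comm.1
        rw [← map_commutatorElement, hπ, QuotientGroup.mk'_apply,
          QuotientGroup.eq_one_iff, comm_mul_right]
        refine mul_mem (hVB (le_normalClosure (c.ctx.two.K1_le (c.ctx.two.Q1_T u huQ t ht))))
          (hBn.conj_mem _ (hVB (c.ctx.UD_mem (c.Nn_U huN) hd).1) t)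
      · intro u hu y hy
        rw [show π u = 1 from (QuotientGroup.eq_one_iff u).2 hu, one_mul, mul_one]
    intro s hs u hu
    rw [← QuotientGroup.eq_one_iff, ← QuotientGroup.mk'_apply, map_commutatorElement,
      commutatorElement_eq_one_iff_mul_comm]
    exact hle hu _ (mem_map_of_mem π hs)
  have hNS : N ≤ (S : Subgroup X) := c.Nn_D.trans (H1.pCore_le_sylow S)
  have hNQn : N ≤ normalizer (Q1 : Set X) := hNS.trans c.ctx.two.Q1_norm
  have hsup := H10.card_mul_card_inf hNQn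
  have hsupS : N ⊔ Q1 ≤ (S : Subgroup X) := sup_le hNS c.ctx.two.Q1_le
  have hcN := c.ctx.sit.chief_card hch c.Nn_D hnc
  set q := Fintype.card F with hq
  have hq0 : 0 < q := Fintype.card_pos
  have hQ0 : 0 < Nat.card Q1 := Nat.card_pos
  have h1 : Nat.card N ≤ q * Nat.card ↥(N ⊓ Q1) := by
    refine Nat.le_of_mul_le_mul_right ?_ hQ0
    rw [← hsup]
    calc Nat.card ↥(N ⊔ Q1) * Nat.card ↥(N ⊓ Q1)
        ≤ q * Nat.card Q1 * Nat.card ↥(N ⊓ Q1) :=
          Nat.mul_le_mul_right _ ((Nat.card_le_card_of_injective (Subgroup.inclusion hsupS)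
            (Subgroup.inclusion_injective hsupS)).trans c.ctx.two.Q1_card)
      _ = _ := by ring
  have h2 := c.ctx.sit.chief_fixed_card hch c.Nn_D hnc
    (C := (N ⊓ Q1) ⊔ B) (sup_le inf_le_left hBN.le) hfix
  rw [inf_eq_right.2 (le_sup_right : B ≤ N ⊓ Q1 ⊔ B)] at h2
  have h3 : Nat.card ↥(N ⊓ Q1) ≤ Nat.card ↥(N ⊓ Q1 ⊔ B) :=
    Nat.card_le_card_of_injective (Subgroup.inclusion le_sup_left)
      (Subgroup.inclusion_injective le_sup_left)
  have h4 : q * Nat.card B ≤ Nat.card ↥(N ⊓ Q1) := by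
    refine Nat.le_of_mul_le_mul_left ?_ hq0
    rw [← mul_assoc, ← hcN]; exact h1
  have heq : N ⊓ Q1 = N ⊓ Q1 ⊔ B :=
    eq_of_le_of_card_ge le_sup_left (h2.trans h4)
  have hBQ : B ≤ Q1 := le_sup_right.trans (heq.ge.trans inf_le_right)
  have hBV : B = V := le_antisymm (c.le_V_of_le_Q1 hBN.le hBQ) hVB
  subst hBV
  have hcard : Nat.card ↥(N ⊓ Q1) = q * Nat.card V := le_antisymm (h3.trans h2) h4
  have hcardN : Nat.card N = q * Nat.card ↥(N ⊓ Q1) := by rw [hcN, hcard, mul_assoc]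
  refine ⟨hch, hnc, hcard, hcardN, le_of_eq (eq_of_le_of_card_ge hsupS ?_).symm⟩
  refine Nat.le_of_mul_le_mul_right ?_ (Nat.card_pos (α := ↥(N ⊓ Q1)))
  rw [hsup, hcardN]
  calc Nat.card (S : Subgroup X) * Nat.card ↥(N ⊓ Q1)
      ≤ q * Nat.card Q1 * Nat.card ↥(N ⊓ Q1) := Nat.mul_le_mul_right _ c.ctx.two.Q1_card
    _ = _ := by ring

/-- What `T` fixes in `N` modulo `V` lies in `Q₁`. -/
theorem mem_Q1_of_fixed {m : X} (hm : m ∈ Nn ψ S)
    (hfix : ∀ t ∈ T, ⁅m, t⁆ ∈ normalClosure (Zc p (S : Subgroup X) : Set X)) : m ∈ Q1 := by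
  haveI hVn := normalClosure_normal (s := (Zc p (S : Subgroup X) : Set X))
  obtain ⟨hch, hnc, hcard, -, -⟩ := c.natural
  haveI := H1.pCore_normal' p X
  set V := normalClosure (Zc p (S : Subgroup X) : Set X) with hV
  set L := fixMod (T : Subgroup X) V ⊓ Nn ψ S with hL
  have hLfix : ∀ s ∈ (S : Subgroup X), ∀ u ∈ L, ⁅s, u⁆ ∈ V := by
    rintro s hs u ⟨hu, huN⟩
    obtain ⟨t, ht, d, hd, rfl⟩ := exists_mul_of_mem_sup
      (le_top.trans (normalizer_eq_top (Cfsg.pCore p X)).ge) (c.ctx.two.sup hs)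
    rw [comm_mul_left]
    exact mul_mem (hVn.conj_mem _ (c.ctx.DU_mem hd (c.Nn_U huN)).1 t)
      (mem_fixMod.1 hu t ht)
  have hQL : Nn ψ S ⊓ Q1 ≤ L := fun u hu => ⟨mem_fixMod.2 fun t ht => by
    rw [← commutatorElement_inv]
    exact inv_mem (le_normalClosure (c.ctx.two.K1_le (c.ctx.two.Q1_T u hu.2 t ht))), hu.1⟩
  have h1 := c.ctx.sit.chief_fixed_card hch c.Nn_D hnc (C := L) inf_le_right hLfix
  rw [inf_eq_right.2 (show V ≤ L from (le_inf hch.1.le c.ctx.two.Q1_V).trans hQL), ← hcard] at h1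
  have h2 := eq_of_le_of_card_ge hQL h1
  exact (h2.ge ⟨mem_fixMod.2 fun t ht => by
    rw [← commutatorElement_inv]; exact inv_mem (hfix t ht), hm⟩).2

/-- Every element of `S` is the product of one of `[O_p(X), O^p(X)]` and one of `Q₁`. -/
theorem sylow_mul {s : X} (hs : s ∈ (S : Subgroup X)) :
    ∃ m ∈ P0 p X, ∃ k ∈ Q1, s = m * k := by
  have hn : Nn ψ S ≤ normalizer (Q1 : Set X) :=
    (c.Nn_D.trans (H1.pCore_le_sylow S)).trans c.ctx.two.Q1_norm
  obtain ⟨n, hn', k, hk, rfl⟩ := exists_mul_of_mem_sup hn (c.natural.2.2.2.2 hs)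
  obtain ⟨m, hm, v, hv, rfl⟩ := c.Nn_mul hn'
  exact ⟨m, hm, v * k, mul_mem (c.ctx.two.Q1_V hv) hk, by rw [mul_assoc]⟩

theorem R_normal : (fixR p X z).Normal := by
  haveI hDn := H1.pCore_normal' p X
  refine normalizer_eq_top_iff.1 (top_le_iff.1 fun x _ => ?_)
  obtain ⟨d, hd, hdx⟩ := c.ctx.exists_fix_mul x
  obtain ⟨m, r, rfl, hm, -, hr⟩ := c.ctx.decomp hd
  have hx : x = r⁻¹ * m⁻¹ * (m * r * x) := by group
  rw [hx]
  refine mul_mem (mul_mem (inv_mem (le_normalizer hr)) (inv_mem ?_)) ?_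
  · refine H75.le_normalizer_of_conj (K := P0 p X) ?_ hm
    intro k hk l hl
    rw [c.R_comm hl hk, mul_inv_cancel_right]
    exact hl
  · refine H75.le_normalizer_of_conj (K := zpowers (m * r * x)) ?_ (mem_zpowers _)
    intro k hk l hl
    obtain ⟨hlD, hlz⟩ := mem_fixR.1 hl
    refine mem_fixR.2 ⟨hDn.conj_mem _ hlD k, ?_⟩
    obtain ⟨i, rfl⟩ := mem_zpowers_iff.1 hk
    have h1 : Commute z ((m * r * x) ^ i) := Commute.zpow_right hdx i
    have h2 : Commute z l := hlz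
    exact ((h1.mul_right h2).mul_right h1.inv_right).eq

/-- The fixed part of the core lies in `Q₁`. -/
theorem R_le_Q1 : fixR p X z ≤ Q1 := by
  intro r hr
  haveI hVn := normalClosure_normal (s := (Zc p (S : Subgroup X) : Set X))
  haveI hRn := c.R_normal
  haveI hP0n := c.ctx.P0_normal
  obtain ⟨m, hm, k, hk, rfl⟩ := c.sylow_mul (H1.pCore_le_sylow S hr.1)
  refine mul_mem (c.mem_Q1_of_fixed (mem_sup_left hm) fun t ht => ?_) hk
  have h1 : ⁅k, t⁆ ∈ normalClosure (Zc p (S : Subgroup X) : Set X) :=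
    le_normalClosure (c.ctx.two.K1_le (c.ctx.two.Q1_T k hk t ht))
  have h2 : ⁅m * k, t⁆ ∈ fixR p X z := by
    rw [commutatorElement_def, mul_assoc _ t, mul_assoc]
    exact mul_mem hr (hRn.conj_mem _ (inv_mem hr) t)
  have hmt : ⁅m, t⁆ ∈ P0 p X := by
    rw [commutatorElement_def, mul_assoc m t, mul_assoc m]
    exact mul_mem hm (hP0n.conj_mem _ (inv_mem hm) t)
  have h3 : ⁅m * k, t⁆ ∈ Nn ψ S := by
    rw [comm_mul_left]
    exact mul_mem (c.Nn_normal.conj_mem _ (mem_sup_right h1) m) (mem_sup_left hmt)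
  have h4 := (c.fix_inter h3 h2).1
  rw [comm_mul_left] at h4
  have h5 := mul_mem (inv_mem (hVn.conj_mem _ h1 m)) h4
  rwa [inv_mul_cancel_left] at h5

/-- `V₁` lies in `N`. -/
theorem V1_le_N : V1 ≤ Nn ψ S := by
  intro u hu
  by_cases huZ : u ∈ Zc p (S : Subgroup X)
  · exact mem_sup_right (le_normalClosure huZ)
  haveI hVn := normalClosure_normal (s := (Zc p (S : Subgroup X) : Set X))
  haveI hDn := H1.pCore_normal' p X
  obtain ⟨m, r, rfl, hm, hmz, hr⟩ := c.ctx.decomp (c.ctx.two.U_le (c.ctx.two.V1_U hu))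
  have hrQ := c.R_le_Q1 hr
  have huU := c.ctx.two.V1_U hu
  refine mul_mem (mem_sup_left hm) (mem_sup_right (le_normalClosure ?_))
  -- `r` is central in `S`
  have hrR : ∀ r' ∈ fixR p X z, r * r' = r' * r := fun r' hr' => by
    have h1 := c.ctx.two.Q1_cent _ hu r' (c.R_le_Q1 hr')
    rw [← mul_assoc r', ← c.R_comm hr' hm, mul_assoc m r', mul_assoc m r] at h1
    exact mul_left_cancel h1
  have hrD : ∀ d ∈ Cfsg.pCore p X, r * d = d * r := fun d hd => by
    obtain ⟨m', r', rfl, hm', -, hr'⟩ := c.ctx.decomp hd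
    rw [← mul_assoc, ← c.R_comm hr hm', mul_assoc m' r r', hrR r' hr', ← mul_assoc]
  have hrT : ∀ t ∈ T, r * t = t * r := fun t ht => by
    obtain ⟨d', hd', hg⟩ := c.ctx.exists_fix_mul t
    set g := d' * t with hgdef
    have hut : (m * r) * t = t * (m * r) := c.ctx.two.Q1_cent _ hu t (c.ctx.two.T_le ht)
    set κ := ⁅m * r, d'⁆ with hκ
    have hκc := c.ctx.UD_mem huU hd'
    have hκ' : κ ∈ normalClosure (Zc p (S : Subgroup X) : Set X) ⊓ center X := hκc
    have hug : ⁅m * r, g⁆ = κ := by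
      rw [hgdef, comm_mul_right, comm_eq_one_of hut, mul_one, mul_inv_cancel, mul_one]
    set ρ := ⁅r, g⁆ with hρ
    have hρR : ρ ∈ fixR p X z := by
      rw [hρ, commutatorElement_def, mul_assoc r g, mul_assoc]
      exact mul_mem hr (c.R_normal.conj_mem _ (inv_mem hr) g)
    have hsplit : m * ρ * m⁻¹ * ⁅m, g⁆ = κ := by
      rw [← hug, comm_mul_left, hρ]
    rw [c.R_comm hρR hm, mul_inv_cancel_right] at hsplit
    -- the commutator with `m` is both fixed and inverted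
    have hκR : κ ∈ fixR p X z := mem_fixR.2 ⟨c.V_D hκ'.1, mem_center_iff.1 hκ'.2 z⟩
    set σ := ⁅m, g⁆ with hσ
    have hσR : σ ∈ fixR p X z := by
      have := mul_mem (inv_mem hρR) hκR
      rwa [← hsplit, inv_mul_cancel_left] at this
    have hzσ : z * σ * z = σ := by
      rw [(mem_fixR.1 hσR).2, mul_assoc, c.ctx.z_sq, mul_one]
    have hgz : z * g = g * z := hg
    have hgmg : g * m * g⁻¹ = σ⁻¹ * m := by rw [hσ, commutatorElement_def]; group
    have hσinv : z * σ * z = σ⁻¹ := by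
      have e1 : z * σ * z = (z * m * z) * g * (z * m⁻¹ * z) * g⁻¹ := by
        have hgz' : g⁻¹ * z = z * g⁻¹ :=
          (Commute.inv_left (show Commute g z from hgz.symm)).eq
        calc z * σ * z = z * m * g * m⁻¹ * (g⁻¹ * z) := by
              rw [hσ, commutatorElement_def]; group
          _ = z * m * (z * z) * g * m⁻¹ * (z * g⁻¹) := by rw [hgz', c.ctx.z_sq, mul_one]
          _ = z * m * z * (z * g) * m⁻¹ * z * g⁻¹ := by group
          _ = z * m * z * (g * z) * m⁻¹ * z * g⁻¹ := by rw [hgz]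
          _ = _ := by group
      rw [e1, hmz, c.ctx.inv_z hmz, show m⁻¹ * g * m * g⁻¹ = m⁻¹ * (g * m * g⁻¹) by group, hgmg,
        ← mul_assoc]
      have := c.R_comm (inv_mem hσR) (inv_mem hm)
      rw [this, inv_mul_cancel_right]
    have hσ1 : σ = 1 := by
      refine eq_one_of_sq c.p_ne (H1.isPGroup_pCore p X) hσR.1 ?_
      rw [← mul_inv_cancel σ]
      exact congrArg (σ * ·) (hzσ.symm.trans hσinv)
    rw [hσ1, mul_one] at hsplit
    -- `[r, t]` lies in `K₁`
    have hrt : ⁅r, t⁆ = κ := by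
      have h1 : g = d' * t := hgdef
      have h2 : ⁅r, g⁆ = ⁅r, t⁆ := by
        rw [h1, comm_mul_right, comm_eq_one_of (hrD d' hd'), one_mul]
        have hx : ⁅r, t⁆ ∈ fixR p X z := by
          rw [commutatorElement_def, mul_assoc r t, mul_assoc]
          exact mul_mem hr (c.R_normal.conj_mem _ (inv_mem hr) t)
        obtain ⟨m', r', e', hm', -, hr'⟩ := c.ctx.decomp hd'
        have hrr' : r' * ⁅r, t⁆ = ⁅r, t⁆ * r' := by
          have ht' : ∀ r' ∈ fixR p X z, ⁅r, t⁆ * r' = r' * ⁅r, t⁆ := by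
            intro r'' hr''
            have hc : ∀ y ∈ fixR p X z, t * r * t⁻¹ * y = y * (t * r * t⁻¹) := fun y hy => by
              have h5 := hrR _ (c.R_normal.conj_mem y hy t⁻¹)
              rw [inv_inv] at h5
              have h6 := congrArg (fun a => t * a * t⁻¹) h5
              simpa [mul_assoc] using h6
            have h7 : Commute (t * r * t⁻¹) r'' := hc r'' hr''
            have h8 : Commute r r'' := hrR r'' hr''
            have h9 : Commute (r * (t * r * t⁻¹)⁻¹) r'' := h8.mul_left h7.inv_left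
            rw [show ⁅r, t⁆ = r * (t * r * t⁻¹)⁻¹ by rw [commutatorElement_def]; group]
            exact h9.eq
          exact (ht' r' hr').symm
        rw [e', mul_assoc m' r', hrr', ← mul_assoc m', c.R_comm hx hm']
        group
      rw [← h2]; exact hsplit
    have hK1 : κ ∈ K1 := hrt ▸ c.ctx.two.Q1_T r hrQ t ht
    rw [← commutatorElement_eq_one_iff_mul_comm, hrt]
    by_cases hdQ : d' ∈ Q1
    · exact comm_eq_one_of (c.ctx.two.Q1_cent _ hu d' hdQ)
    · exact absurd hK1 (c.ctx.two.cover _ hu huZ d' (H1.pCore_le_sylow S hd') hdQ)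
  refine ⟨H1.pCore_le_sylow S hr.1, fun s hs => ?_, ?_⟩
  · obtain ⟨t, ht, d, hd, rfl⟩ := exists_mul_of_mem_sup
      (le_top.trans (normalizer_eq_top (Cfsg.pCore p X)).ge) (c.ctx.two.sup hs)
    rw [mul_assoc, ← hrD d hd, ← mul_assoc, ← hrT t ht, mul_assoc]
  · refine c.ctx.two.U_pow r ?_
    have := mul_mem (inv_mem (c.ctx.P0_le_U hm)) huU
    rwa [inv_mul_cancel_left] at this

/-- `N ∩ Q₁` is `V₁ V`, an abelian group. -/
theorem inter_eq : Nn ψ S ⊓ Q1 = V1 ⊔ normalClosure (Zc p (S : Subgroup X) : Set X) ∧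
    ∀ a ∈ Nn ψ S ⊓ Q1, ∀ b ∈ Nn ψ S ⊓ Q1, a * b = b * a := by
  haveI hVn := normalClosure_normal (s := (Zc p (S : Subgroup X) : Set X))
  obtain ⟨-, -, hcard, -, -⟩ := c.natural
  set V := normalClosure (Zc p (S : Subgroup X) : Set X) with hV
  have hinf : V1 ⊓ V ≤ Zc p (S : Subgroup X) := by
    intro x hx
    by_contra hxZ
    obtain ⟨s, hs, hsQ⟩ := SetLike.not_le_iff_exists.1 c.not_le_Q1
    refine c.ctx.two.cover x hx.1 hxZ s (H1.pCore_le_sylow S (c.P0_D hs)) hsQ ?_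
    rw [comm_eq_one_of (c.V_comm hx.2 (c.P0_D hs)).symm]
    exact one_mem _
  have hle : V1 ⊔ V ≤ Nn ψ S ⊓ Q1 :=
    sup_le (le_inf c.V1_le_N c.ctx.two.V1_Q1) (le_inf le_sup_right c.ctx.two.Q1_V)
  have h1 := H10.card_mul_card_inf (le_top.trans (normalizer_eq_top V).ge : V1 ≤ _)
  have h2 : Nat.card ↥(V1 ⊓ V) ≤ Nat.card (Zc p (S : Subgroup X)) :=
    Nat.card_le_card_of_injective (Subgroup.inclusion hinf) (Subgroup.inclusion_injective hinf)
  have heq : V1 ⊔ V = Nn ψ S ⊓ Q1 := by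
    refine eq_of_le_of_card_ge hle ?_
    rw [hcard]
    refine Nat.le_of_mul_le_mul_right ?_ (Nat.card_pos (α := ↥(Zc p (S : Subgroup X))))
    calc Fintype.card F * Nat.card V * Nat.card (Zc p (S : Subgroup X))
        = Fintype.card F * Nat.card (Zc p (S : Subgroup X)) * Nat.card V := by ring
      _ ≤ Nat.card V1 * Nat.card V := Nat.mul_le_mul_right _ c.ctx.two.V1_card
      _ = Nat.card ↥(V1 ⊔ V) * Nat.card ↥(V1 ⊓ V) := h1.symm
      _ ≤ _ := Nat.mul_le_mul_left _ h2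
  refine ⟨heq.symm, ?_⟩
  have hsub : V1 ⊔ V ≤ centralizer (V1 ⊔ V : Subgroup X) := by
    refine sup_le (fun u hu => ?_) (fun v hv => ?_)
    · refine mem_centralizer_iff.2 fun y hy => ?_
      exact (c.ctx.two.Q1_cent u hu y (hle hy).2).symm
    · refine mem_centralizer_iff.2 fun y hy => ?_
      exact c.V_comm hv (c.Nn_D (hle hy).1)
  intro a ha b hb
  rw [← heq] at ha hb
  exact mem_centralizer_iff.1 (hsub hb) a ha

end TwoFull

end H80.PU
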