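import Cfsg.Agent.H80.PU.One

/-!
The second outcome: an involution of `O^p(X)` splits the core.
-/

set_option autoImplicit false
set_option linter.unusedSectionVars false
set_option linter.style.haveILetI false

open Subgroup
open scoped MatrixGroups commutatorElement

namespace H80.PU

open H71.BGNP

variable {X : Type*} [Group X] [Finite X] {p : ℕ} [Fact p.Prime] {F : Type} [Field F] [Fintype F]
  {ψ : X →* Matrix.ProjectiveSpecialLinearGroup (Fin 2) F} {S : Sylow p X}
  {T U V1 Q1 K1 W A : Subgroup X} {z : X}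

/-- The standing data of the second outcome. -/
structure TwoCtx (ψ : X →* Matrix.ProjectiveSpecialLinearGroup (Fin 2) F) (S : Sylow p X)
    (T U V1 Q1 K1 W A : Subgroup X) (z : X) : Prop where
  sit : Sit p ψ S
  two : Two p (Fintype.card F) ⊤ (S : Subgroup X) (Cfsg.pCore p X)
    (normalClosure (Zc p (S : Subgroup X) : Set X)) T U V1 Q1 K1 W A
  z_mem : z ∈ opX p X
  z_sq : z * z = 1
  z_central : ∀ x : X, ⁅z, x⁆ ∈ Cfsg.pCore p X

/-- The part of the core fixed by `z`. -/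
abbrev fixR (p : ℕ) (X : Type*) [Group X] (z : X) : Subgroup X :=
  Cfsg.pCore p X ⊓ centralizer ({z} : Set X)

/-- `[O_p(X), O^p(X)]`. -/
abbrev P0 (p : ℕ) (X : Type*) [Group X] : Subgroup X := ⁅Cfsg.pCore p X, opX p X⁆

theorem mem_fixR {z x : X} : x ∈ fixR p X z ↔ x ∈ Cfsg.pCore p X ∧ z * x = x * z := by
  rw [Subgroup.mem_inf, mem_centralizer_iff]
  simp only [Set.mem_singleton_iff, forall_eq]

/-- In a `p`-group of odd order an element whose square lies in a subgroup lies there. -/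
theorem mem_of_sq {P M : Subgroup X} (hp : p ≠ 2) (hP : IsPGroup p P) {x : X} (hx : x ∈ P)
    (h2 : x * x ∈ M) : x ∈ M := by
  obtain ⟨k, hk⟩ := hP ⟨x, hx⟩
  have hk' : x ^ p ^ k = 1 := by simpa using congrArg Subtype.val hk
  have hodd : Odd (p ^ k) := ((Fact.out : p.Prime).odd_of_ne_two hp).pow
  obtain ⟨j, hj⟩ := hodd
  have h1 : (x * x) ^ (j + 1) = x := by
    rw [← sq, ← pow_mul, show 2 * (j + 1) = p ^ k + 1 by omega, pow_succ, hk', one_mul]
  exact h1 ▸ pow_mem h2 _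

/-- An element commuting with its own inverse image. -/
theorem eq_one_of_sq (hp : p ≠ 2) {P : Subgroup X} (hP : IsPGroup p P) {x : X} (hx : x ∈ P)
    (h2 : x * x = 1) : x = 1 :=
  Subgroup.mem_bot.1 (mem_of_sq hp hP hx (Subgroup.mem_bot.2 h2))

namespace TwoCtx

variable (c : TwoCtx ψ S T U V1 Q1 K1 W A z)
include c

theorem p_ne : p ≠ 2 := c.two.ne_two

theorem U_normal : U.Normal := normalizer_eq_top_iff.1 (top_le_iff.1 c.two.U_norm)

theorem DU_mem {d u : X} (hd : d ∈ Cfsg.pCore p X) (hu : u ∈ U) :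
    ⁅d, u⁆ ∈ normalClosure (Zc p (S : Subgroup X) : Set X) ⊓ center X := by
  obtain ⟨h1, h2⟩ := c.two.U_comm d hd u hu
  rw [centralizer_top_eq] at h1
  exact ⟨h2, h1⟩

theorem UD_mem {d u : X} (hu : u ∈ U) (hd : d ∈ Cfsg.pCore p X) :
    ⁅u, d⁆ ∈ normalClosure (Zc p (S : Subgroup X) : Set X) ⊓ center X := by
  rw [← commutatorElement_inv]; exact inv_mem (c.DU_mem hd hu)

theorem P0_le_U : P0 p X ≤ U := by
  haveI := c.U_normal
  haveI := H1.pCore_normal' p X
  exact res_comm_le c.sit c.two.sup fun d hd t ht => c.two.DT d hd t ht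

theorem P0_normal : (P0 p X).Normal := by
  haveI := H1.pCore_normal' p X
  haveI := opX_normal (p := p) (X := X)
  infer_instance

theorem z_inv : z⁻¹ = z := inv_eq_of_mul_eq_one_right c.z_sq

theorem conj_mem {K : Subgroup X} (hK : K.Normal) {x : X} (hx : x ∈ K) : z * x * z ∈ K := by
  have := hK.conj_mem x hx z
  rwa [c.z_inv] at this

theorem inv_z {m : X} (h : z * m * z = m⁻¹) : z * m⁻¹ * z = m := by
  have h1 := congrArg (·⁻¹) h
  simp only [mul_inv_rev, inv_inv, c.z_inv] at h1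
  rw [mul_assoc]; exact h1

/-- `d = m r` with `m` inverted and `r` fixed by `z`. -/
theorem decomp {d : X} (hd : d ∈ Cfsg.pCore p X) :
    ∃ m r, d = m * r ∧ m ∈ P0 p X ∧ z * m * z = m⁻¹ ∧ r ∈ fixR p X z := by
  have hDn := H1.pCore_normal' p X
  set w := d * z * d⁻¹ * z with hw
  have hwP : w ∈ P0 p X := by
    have := commutator_mem_commutator hd c.z_mem
    rwa [commutatorElement_def, c.z_inv] at this
  have hwU : w ∈ U := c.P0_le_U hwP
  obtain ⟨j, hj⟩ := (Fact.out : p.Prime).odd_of_ne_two c.p_ne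
  set m := w ^ (j + 1) with hm
  have hwz : z * w * z = w⁻¹ := by
    rw [hw, mul_inv_rev, mul_inv_rev, mul_inv_rev, inv_inv, c.z_inv]
    simp only [mul_assoc, c.z_sq, mul_one]
  have hmm : m * m = w := by
    rw [hm, ← pow_add, show j + 1 + (j + 1) = p + 1 by omega, pow_succ, c.two.U_pow w hwU, one_mul]
  have hmz : z * m * z = m⁻¹ := by
    have h1 : z * m * z = (z * w * z) ^ (j + 1) := by
      have := conj_pow (i := j + 1) (a := z) (b := w)
      rw [c.z_inv] at this
      exact this.symm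
    rw [h1, hwz, inv_pow]
  have hmP : m ∈ P0 p X := pow_mem hwP _
  refine ⟨m, m⁻¹ * d, by group, hmP, hmz, mem_fixR.2 ⟨mul_mem
    (inv_mem (commutator_le_left _ _ hmP)) hd, ?_⟩⟩
  have h2 : z * d * z = w⁻¹ * d := by
    rw [hw, mul_inv_rev, mul_inv_rev, mul_inv_rev, inv_inv, c.z_inv]
    simp only [mul_assoc, inv_mul_cancel, mul_one]
  have hmz' : z * m⁻¹ * z = m := c.inv_z hmz
  have h3 : z * (m⁻¹ * d) * z = m⁻¹ * d :=
    calc z * (m⁻¹ * d) * z = z * m⁻¹ * z * (z * d * z) := by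
          simp only [mul_assoc]; rw [← mul_assoc z z, c.z_sq, one_mul]
      _ = m * ((m * m)⁻¹ * d) := by rw [hmz', h2, hmm]
      _ = _ := by group
  calc z * (m⁻¹ * d) = z * (m⁻¹ * d) * (z * z) := by rw [c.z_sq, mul_one]
    _ = z * (m⁻¹ * d) * z * z := by group
    _ = _ := by rw [h3]

/-- Inverted elements of the core lie in `[O_p(X), O^p(X)]`. -/
theorem inverted_mem {m : X} (hm : m ∈ Cfsg.pCore p X) (hz : z * m * z = m⁻¹) : m ∈ P0 p X := by
  refine mem_of_sq c.p_ne (H1.isPGroup_pCore p X) hm ?_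
  have := commutator_mem_commutator hm c.z_mem
  rwa [commutatorElement_def, c.z_inv, mul_assoc m z, mul_assoc m,
    c.inv_z hz] at this

theorem comm_inverted {m r : X} (hm : m ∈ P0 p X) (hz : z * m * z = m⁻¹) (hr : r ∈ fixR p X z) :
    m * r = r * m := by
  obtain ⟨hrD, hrz⟩ := mem_fixR.1 hr
  have hc := c.UD_mem (c.P0_le_U hm) hrD
  rw [← commutatorElement_eq_one_iff_mul_comm]
  refine eq_one_of_sq c.p_ne (H1.isPGroup_pCore p X)
    ((module_facts c.sit).1 hc.1) ?_
  have hcen := mem_center_iff.1 hc.2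
  have h1 : z * ⁅m, r⁆ * z = ⁅m⁻¹, r⁆ := by
    rw [← hz]
    have hr' : z * r * z = r := by rw [hrz, mul_assoc, c.z_sq, mul_one]
    conv_rhs => rw [← hr']
    simp only [commutatorElement_def, mul_inv_rev, c.z_inv, ← mul_assoc]
    simp only [mul_assoc]
    simp only [← mul_assoc z z, c.z_sq, one_mul]
  rw [hcen z, mul_assoc, c.z_sq, mul_one] at h1
  have h2 : ⁅m⁻¹, r⁆ = ⁅m, r⁆⁻¹ := by
    calc ⁅m⁻¹, r⁆ = m⁻¹ * ⁅m, r⁆⁻¹ * m := by simp only [commutatorElement_def]; group
      _ = m⁻¹ * (m * ⁅m, r⁆⁻¹) := by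
        rw [mul_assoc, ← (mem_center_iff.1 (inv_mem hc.2) m)]
      _ = _ := by group
  rw [h2] at h1
  exact eq_inv_iff_mul_eq_one.1 h1

end TwoCtx

end H80.PU
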