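import Cfsg.Agent.H71.BGNP.Factors
import Cfsg.Agent.H74.PRed
import Cfsg.Agent.H97.Schur
import Cfsg.Agent.H39.PSL2Multiplier

/-!
The `p`-residual of a group in the rank one pushing-up situation.
-/

set_option autoImplicit false
set_option linter.unusedSectionVars false
set_option linter.style.haveILetI false

open Subgroup Matrix
open scoped MatrixGroups commutatorElement

namespace H80.PU

open H71.BGNP

section general

variable {Y : Type*} [Group Y]

/-- The elements fixing a normal subgroup modulo another form a normal subgroup. -/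
def fixMod (A M : Subgroup Y) [M.Normal] : Subgroup Y :=
  (centralizer (A.map (QuotientGroup.mk' M) : Set (Y ⧸ M))).comap (QuotientGroup.mk' M)

theorem mem_fixMod {A M : Subgroup Y} [M.Normal] {x : Y} :
    x ∈ fixMod A M ↔ ∀ a ∈ A, ⁅a, x⁆ ∈ M := by
  have key : ∀ a : Y, ⁅a, x⁆ ∈ M ↔ QuotientGroup.mk' M a * QuotientGroup.mk' M x =
      QuotientGroup.mk' M x * QuotientGroup.mk' M a := fun a => by
    rw [← commutatorElement_eq_one_iff_mul_comm, ← map_commutatorElement, QuotientGroup.mk'_apply,
      QuotientGroup.eq_one_iff]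
  constructor
  · exact fun hx a ha => (key a).2 (mem_centralizer_iff.1 hx _ ⟨a, ha, rfl⟩)
  · intro h
    refine mem_centralizer_iff.2 ?_
    rintro _ ⟨a, ha, rfl⟩
    exact (key a).1 (h a ha)

theorem fixMod_normal (A M : Subgroup Y) [M.Normal] [hA : A.Normal] : (fixMod A M).Normal := by
  haveI := hA.map (QuotientGroup.mk' M) (QuotientGroup.mk'_surjective M)
  unfold fixMod
  infer_instance

/-- In an abelian image of `O^p`, every element has order prime to `p`. -/
theorem coprime_of_resOf [Finite Y] {p : ℕ} {A : Type*} [CommGroup A] {E : Subgroup Y}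
    (hE : H75.resOf p E = E) (f : ↥E →* A) (x : ↥E) : (orderOf (f x)).Coprime p := by
  have hgen : Subgroup.closure {y : ↥E | (orderOf (y : Y)).Coprime p} = ⊤ := by
    apply Subgroup.map_injective E.subtype_injective
    rw [MonoidHom.map_closure, ← MonoidHom.range_eq_map, range_subtype]
    refine Eq.trans ?_ hE
    rw [H75.resOf]
    congr 1
    ext y
    exact ⟨fun ⟨⟨z, hz⟩, h, e⟩ => e ▸ ⟨hz, h⟩, fun ⟨hy, h⟩ => ⟨⟨y, hy⟩, h, rfl⟩⟩
  have hx : x ∈ Subgroup.closure {y : ↥E | (orderOf (y : Y)).Coprime p} := hgen ▸ mem_top x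
  induction hx using Subgroup.closure_induction with
  | mem y hy =>
    exact Nat.Coprime.coprime_dvd_left ((orderOf_map_dvd f y).trans (dvd_of_eq (orderOf_coe y).symm)) hy
  | one => simp
  | mul a b _ _ iha ihb =>
    rw [map_mul]
    exact ((Commute.all (f a) (f b)).orderOf_mul_dvd_mul_orderOf).elim fun c hc =>
      (Nat.Coprime.mul_left iha ihb).coprime_dvd_left ⟨c, hc⟩
  | inv a _ iha => rwa [map_inv, orderOf_inv]

/-- `O^p` mapped to an abelian group kills `p`-elements. -/
theorem map_eq_one_of_resOf [Finite Y] {p : ℕ} [Fact p.Prime] {A : Type*} [CommGroup A]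
    {E : Subgroup Y} (hE : H75.resOf p E = E) (f : ↥E →* A) {P : Subgroup Y} (hP : IsPGroup p P)
    {x : ↥E} (hx : (x : Y) ∈ P) : f x = 1 := by
  obtain ⟨k, hk⟩ := hP ⟨_, hx⟩
  have hxk : x ^ p ^ k = 1 := Subtype.ext (by simpa using congrArg Subtype.val hk)
  have h1 : orderOf (f x) ∣ p ^ k :=
    orderOf_dvd_of_pow_eq_one (by rw [← map_pow, hxk, map_one])
  exact orderOf_eq_one_iff.1 (Nat.eq_one_of_dvd_coprimes
    ((coprime_of_resOf hE f x).pow_right k) dvd_rfl h1)

end general

variable {X : Type*} [Group X] [Finite X] {p : ℕ} [Fact p.Prime] {F : Type} [Field F] [Fintype F]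
  {ψ : X →* Matrix.ProjectiveSpecialLinearGroup (Fin 2) F} {S : Sylow p X}

/-- `O^p` of `X`. -/
abbrev opX (p : ℕ) (X : Type*) [Group X] : Subgroup X := H75.resOf p (⊤ : Subgroup X)

theorem opX_res : H75.resOf p (opX p X) = opX p X := H75.resOf_resOf _

theorem opX_normal : (opX p X).Normal :=
  normalizer_eq_top_iff.1 (top_le_iff.1 ((normalizer_eq_top (⊤ : Subgroup X)).ge.trans
    (H75.normalizer_le_normalizer_resOf _)))

theorem opX_sup_sylow (P : Sylow p X) : opX p X ⊔ (P : Subgroup X) = ⊤ := by
  rw [opX, H75.resOf_top]; exact H75.pResidual_sup_sylow P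

variable (h : Sit p ψ S)
include h

/-- A normal subgroup containing the Sylow subgroup is everything. -/
theorem eq_top_of_sylow_le {N : Subgroup X} (hN : N.Normal) (hS : (S : Subgroup X) ≤ N) :
    N = ⊤ := by
  obtain ⟨S', hS'⟩ := h.exists_lower
  obtain ⟨g, hg⟩ := MulAction.exists_smul_eq X S S'
  refine eq_top_iff.2 ((h.sup_lower hS').ge.trans (sup_le hS ?_))
  rw [← hg, ← cj_sylow]
  rintro _ ⟨s, hs, rfl⟩
  exact hN.conj_mem s (hS hs) g

/-- `O^p` fixes what `T` fixes. -/
theorem res_comm_le {T A M : Subgroup X} [A.Normal] [M.Normal]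
    (hsup : (S : Subgroup X) ≤ T ⊔ Cfsg.pCore p X) (hT : ∀ a ∈ A, ∀ t ∈ T, ⁅a, t⁆ ∈ M) :
    ⁅A, opX p X⁆ ≤ M := by
  haveI := H1.pCore_normal' p X
  haveI hn := fixMod_normal A M
  have h1 : fixMod A M ⊔ Cfsg.pCore p X = ⊤ := by
    refine eq_top_of_sylow_le h inferInstance (hsup.trans (sup_le_sup_right ?_ _))
    exact fun t ht => mem_fixMod.2 fun a ha => hT a ha t ht
  have h2 : opX p X ≤ fixMod A M :=
    H75.resOf_le_of_sup (le_top.trans (normalizer_eq_top _).ge) (H1.isPGroup_pCore p X) h1
  exact commutator_le.2 fun a ha e he => mem_fixMod.1 (h2 he) a ha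

/-- Everything fixes what `T` and the core fix. -/
theorem top_comm_le {T A M : Subgroup X} [A.Normal] [M.Normal]
    (hsup : (S : Subgroup X) ≤ T ⊔ Cfsg.pCore p X) (hT : ∀ a ∈ A, ∀ t ∈ T, ⁅a, t⁆ ∈ M)
    (hD : ∀ a ∈ A, ∀ d ∈ Cfsg.pCore p X, ⁅a, d⁆ ∈ M) : ⁅A, (⊤ : Subgroup X)⁆ ≤ M := by
  haveI hn := fixMod_normal A M
  have h1 : fixMod A M = ⊤ := eq_top_of_sylow_le h hn (hsup.trans (sup_le
    (fun t ht => mem_fixMod.2 fun a ha => hT a ha t ht)
    fun d hd => mem_fixMod.2 fun a ha => hD a ha d hd))
  exact commutator_le.2 fun a ha x _ => mem_fixMod.1 (h1 ▸ mem_top x) a ha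

/-- `O^p(X)` meets `O_p(X)` in its own `p`-core. -/
theorem core_opX : Cfsg.pCoreOf p (opX p X) = opX p X ⊓ Cfsg.pCore p X := by
  haveI := opX_normal (p := p) (X := X)
  haveI := H1.pCore_normal' p X
  refine le_antisymm (le_inf (H75.pCoreOf_le _) ?_) ?_
  · haveI : (Cfsg.pCoreOf p (opX p X)).Normal := H75.normal_of_top_le
      ((normalizer_eq_top (opX p X)).ge.trans (H75.normalizer_le_normalizer_pCoreOf _))
    exact H1.le_pCore (H75.isPGroup_pCoreOf _)
  · rw [inf_comm]; exact H75.pCore_inf_le _

/-- `X` covers the special linear group. -/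
theorem exists_hom : ∃ (S' : Sylow p X) (r : X →* SL(2, F)),
    (∀ y, y ∈ (S' : Subgroup X).map ψ ↔ ∃ a, y = lowP a) ∧ IsNatHom ψ S S' r ∧
      r.ker = Cfsg.pCore p X ∧ (opX p X).map r = commutator SL(2, F) := by
  haveI := h.char
  obtain ⟨S', hS'⟩ := h.exists_lower
  obtain ⟨r, hr⟩ := h.exists_natHom hS'
  refine ⟨S', r, hS', hr, h.ker_natHom hS' hr, le_antisymm ?_ ?_⟩
  · set N := (commutator SL(2, F)).comap r with hN
    haveI : N.Normal := inferInstance
    have htop : N ⊔ (S : Subgroup X) = ⊤ := by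
      refine eq_top_of_sylow_le h ?_ le_sup_right
      refine ⟨fun x hx g => ?_⟩
      have h1 : ⁅g, x⁆ ∈ N := by
        show r ⁅g, x⁆ ∈ commutator SL(2, F)
        rw [map_commutatorElement, commutator_def]
        exact commutator_mem_commutator (mem_top _) (mem_top _)
      have := mul_mem (mem_sup_left h1 : ⁅g, x⁆ ∈ N ⊔ (S : Subgroup X)) hx
      simpa [commutatorElement_def] using this
    rw [map_le_iff_le_comap]
    exact H75.resOf_le_of_sup (le_top.trans (normalizer_eq_top _).ge) S.isPGroup' htop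
  · set R := (opX p X).map r with hR
    haveI := opX_normal (p := p) (X := X)
    haveI hRn : R.Normal := Normal.map inferInstance r hr.2.2
    have hsurj : Function.Surjective ((QuotientGroup.mk' R).comp r) :=
      (QuotientGroup.mk'_surjective R).comp hr.2.2
    have hP : IsPGroup p (SL(2, F) ⧸ R) := by
      intro y
      obtain ⟨x, rfl⟩ := hsurj y
      obtain ⟨e, he, s, hs, rfl⟩ := H1.exists_mul_of_mem_sup
        (le_top.trans (normalizer_eq_top (opX p X)).ge : (S : Subgroup X) ≤ _)
        (show x ∈ opX p X ⊔ (S : Subgroup X) by rw [opX_sup_sylow S]; exact mem_top x)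
      obtain ⟨k, hk⟩ := S.isPGroup' ⟨s, hs⟩
      refine ⟨k, ?_⟩
      have h1 : ((QuotientGroup.mk' R).comp r) e = 1 :=
        (QuotientGroup.eq_one_iff _).2 (mem_map_of_mem r he)
      rw [map_mul, h1, one_mul, ← map_pow,
        show s ^ p ^ k = 1 from by simpa using congrArg Subtype.val hk, map_one]
    obtain ⟨n, hn, hF⟩ := h.exists_card
    by_cases h4 : 4 ≤ Fintype.card F
    · rcases subsingleton_or_nontrivial (SL(2, F) ⧸ R) with hs | hs
      · exact fun x _ => (QuotientGroup.eq_one_iff x).1 (Subsingleton.elim _ _)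
      exfalso
      haveI := hP.isNilpotent
      have h1 : commutator (SL(2, F) ⧸ R) = ⊤ := by
        rw [_root_.commutator_def, ← Subgroup.map_top_of_surjective (QuotientGroup.mk' R)
          (QuotientGroup.mk'_surjective R), ← Subgroup.map_commutator, ← _root_.commutator_def,
          H39.SL2_perfect' (F := F) h4]
      exact (Group.IsSolvable.commutator_lt_top_of_nontrivial (SL(2, F) ⧸ R)).ne h1
    · -- the quotient has order dividing the prime `q`
      have hq : Fintype.card F = p := by
        rcases n with _ | _ | n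
        · omega
        · simpa using hF
        · have := (Fact.out : p.Prime).two_le
          have : p ^ 2 ≤ p ^ (n + 1 + 1) := Nat.pow_le_pow_right (by omega) (by omega)
          nlinarith
      obtain ⟨k, hk⟩ := IsPGroup.iff_card.1 hP
      have hdvd : Nat.card (SL(2, F) ⧸ R) ∣ Fintype.card F := by
        have h1 : Nat.card (SL(2, F) ⧸ R) ∣ Nat.card ((S : Subgroup X).map r) := by
          have : ((S : Subgroup X).map r).map (QuotientGroup.mk' R) = ⊤ := by
            refine eq_top_iff.2 fun y _ => ?_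
            obtain ⟨x, rfl⟩ := hsurj y
            obtain ⟨e, he, s, hs, rfl⟩ := H1.exists_mul_of_mem_sup
              (le_top.trans (normalizer_eq_top (opX p X)).ge : (S : Subgroup X) ≤ _)
              (show x ∈ opX p X ⊔ (S : Subgroup X) by rw [opX_sup_sylow S]; exact mem_top x)
            refine ⟨r s, mem_map_of_mem r hs, ?_⟩
            have h1 : ((QuotientGroup.mk' R).comp r) e = 1 :=
              (QuotientGroup.eq_one_iff _).2 (mem_map_of_mem r he)
            rw [map_mul, h1, one_mul]
            rfl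
          have h2 := card_map_dvd ((S : Subgroup X).map r) (QuotientGroup.mk' R)
          rwa [this, Subgroup.card_top] at h2
        refine h1.trans ?_
        have h3 := h.card_sylow
        have h4 := card_mul_index (r.domRestrict (S : Subgroup X)).ker
        rw [index_ker, MonoidHom.domRestrict_range] at h4
        have hk : Nat.card (r.domRestrict (S : Subgroup X)).ker = Nat.card (Cfsg.pCore p X) := by
          refine Nat.card_congr (Equiv.trans ?_ (subgroupOfEquivOfLe (H1.pCore_le_sylow S)).toEquiv)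
          refine Equiv.setCongr (Set.ext fun x => ?_)
          show r x = 1 ↔ (x : X) ∈ Cfsg.pCore p X
          rw [← h.ker_natHom hS' hr]
          exact Iff.rfl
        rw [hk] at h4
        exact ⟨1, by
          rw [mul_one]
          refine Nat.eq_of_mul_eq_mul_left (Nat.card_pos : 0 < Nat.card (Cfsg.pCore p X)) ?_
          rw [h4, h3, mul_comm]⟩
      rw [hq] at hdvd
      haveI : IsCyclic (SL(2, F) ⧸ R) := by
        rcases (Nat.dvd_prime Fact.out).1 hdvd with h1 | h1
        · haveI := (Nat.card_eq_one_iff_unique.1 h1).1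
          exact isCyclic_of_subsingleton
        · exact isCyclic_of_prime_card h1
      intro x hx
      refine (QuotientGroup.eq_one_iff x).1 ?_
      letI : CommGroup (SL(2, F) ⧸ R) := IsCyclic.commGroup
      have : commutator SL(2, F) ≤ (QuotientGroup.mk' R).ker :=
        Abelianization.commutator_subset_ker (QuotientGroup.mk' R)
      exact this hx

end H80.PU
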